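import Groth.Agent.Lib.Helper8.RGV.S30

/-!
# helper8: adjoining integral elements of `A ⊗ K` to an admissible algebra
-/

set_option autoImplicit false
universe u

open MvPolynomial IsLocalRing AdicRing TensorProduct Function

namespace Groth.Agent.H8.RGV

/-- a complete finite algebra over a top.f.t. algebra is topologically of finite type -/
theorem finiteType_trunc_of_finite (R : Type u) [CommRing R] (I : Ideal R) (hI : I.FG)
    (A : Type u) [CommRing A] [Algebra R A] (d : ℕ) (φ : RPow R I d →ₐ[R] A)
    (hφ : Function.Surjective φ)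
    (A' : Type u) [CommRing A'] [Algebra R A'] [Algebra A A'] [IsScalarTower R A A']
    [Algebra.FiniteType A A'] (k : ℕ) :
    Algebra.FiniteType R (A' ⧸ (I ^ k).map (algebraMap R A')) := by
  have hle : (I ^ k).map (algebraMap R A) ≤
      Ideal.comap (algebraMap A A') ((I ^ k).map (algebraMap R A')) := by
    rw [← Ideal.map_le_iff_le_comap, Ideal.map_map, ← IsScalarTower.algebraMap_eq]
  obtain ⟨g, hg⟩ : ∃ g : A ⧸ (I ^ k).map (algebraMap R A) →+* A' ⧸ (I ^ k).map (algebraMap R A'),
      g = Ideal.quotientMap _ (algebraMap A A') hle := ⟨_, rfl⟩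
  have h1 : (g.comp (Ideal.Quotient.mk ((I ^ k).map (algebraMap R A)))).FiniteType := by
    have h2 : g.comp (Ideal.Quotient.mk ((I ^ k).map (algebraMap R A))) =
        (Ideal.Quotient.mk ((I ^ k).map (algebraMap R A'))).comp (algebraMap A A') := by
      rw [hg]
      exact Ideal.quotientMap_comp_mk hle
    rw [h2]
    exact (RingHom.FiniteType.of_surjective _ Ideal.Quotient.mk_surjective).comp
      (RingHom.finiteType_algebraMap.mpr inferInstance)
  have hgft : g.FiniteType := RingHom.FiniteType.of_comp_finiteType h1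
  have h3 : Algebra.FiniteType R (A ⧸ (I ^ k).map (algebraMap R A)) :=
    Algebra.FiniteType.of_surjective (rho R I d A φ k) (rho_surjective R I d A φ hφ hI k)
  have h4 : (g.comp (algebraMap R (A ⧸ (I ^ k).map (algebraMap R A)))).FiniteType :=
    hgft.comp (RingHom.finiteType_algebraMap.mpr h3)
  have h5 : g.comp (algebraMap R (A ⧸ (I ^ k).map (algebraMap R A))) =
      algebraMap R (A' ⧸ (I ^ k).map (algebraMap R A')) := by
    ext r
    rw [hg, RingHom.comp_apply]
    change Ideal.quotientMap _ (algebraMap A A') hle (Ideal.Quotient.mk _ (algebraMap R A r)) = _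
    rw [Ideal.quotientMap_mk, ← IsScalarTower.algebraMap_apply]
    rfl
  rw [h5] at h4
  exact RingHom.finiteType_algebraMap.mp h4

/-- S13352 -/
theorem s13352 (R : Type u) [CommRing R] [IsDomain R] [ValuationRing R] [Ring.KrullDimLE 1 R]
    (t : R) (ht : t ≠ 0) [IsAdicComplete (Ideal.span {t}) R]
    (A : Type u) [CommRing A] [Algebra R A] (hA : AdicRing.Admissible R (Ideal.span {t}) A)
    (n : ℕ) (f : Fin n → A ⊗[R] FractionRing R) (hf : ∀ i, IsIntegral A (f i)) :
    AdicRing.Admissible R (Ideal.span {t}) ↥(Algebra.adjoin A (Set.range f)) ∧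
      Module.Finite A ↥(Algebra.adjoin A (Set.range f)) := by
  obtain ⟨⟨d, φ, hφ, -⟩, -⟩ := hA
  haveI hfin : Module.Finite A ↥(Algebra.adjoin A (Set.range f)) :=
    Algebra.finite_adjoin_of_finite_of_isIntegral (Set.finite_range f)
      (by rintro _ ⟨i, rfl⟩; exact hf i)
  refine ⟨?_, hfin⟩
  have hI : (Ideal.span {t}).FG := ⟨{t}, by simp⟩
  have hR : AdicRing.IsBase R (Ideal.span {t}) :=
    ⟨inferInstance, Or.inr ⟨inferInstance, inferInstance, inferInstance, t, ht, rfl⟩⟩
  have hnt' : AdicRing.NoPowTorsion (Ideal.span {t}) ↥(Algebra.adjoin A (Set.range f)) := by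
    intro x k hx
    have h1 := hx (t ^ k) (Ideal.pow_mem_pow (Ideal.mem_span_singleton_self t) k)
    rw [Algebra.smul_def] at h1
    have h2 : algebraMap R (A ⊗[R] FractionRing R) (t ^ k) * (x : A ⊗[R] FractionRing R) = 0 := by
      have := congrArg Subtype.val h1
      exact this
    have hu : IsUnit (algebraMap R (A ⊗[R] FractionRing R) (t ^ k)) := by
      have h3 : IsUnit (algebraMap R (FractionRing R) (t ^ k)) := by
        rw [isUnit_iff_ne_zero, Ne, map_eq_zero_iff _ (IsFractionRing.injective R (FractionRing R))]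
        exact pow_ne_zero _ ht
      have h4 := h3.map (Algebra.TensorProduct.includeRight : FractionRing R →ₐ[R] A ⊗[R] FractionRing R)
      rwa [AlgHom.commutes] at h4
    exact Subtype.ext (hu.mul_right_eq_zero.mp h2)
  have hc : IsAdicComplete (Ideal.span {t}) ↥(Algebra.adjoin A (Set.range f)) :=
    complete R t ht d _ (hJ_of R t d) A φ hφ ↥(Algebra.adjoin A (Set.range f))
  haveI : IsAdicComplete ((Ideal.span {t}).map
      (algebraMap R ↥(Algebra.adjoin A (Set.range f)))) ↥(Algebra.adjoin A (Set.range f)) :=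
    (IsAdicComplete.map_algebraMap_iff _ _).mpr hc
  haveI : Algebra.FiniteType A ↥(Algebra.adjoin A (Set.range f)) := inferInstance
  have h0 := finiteType_trunc_of_finite R (Ideal.span {t}) hI A d φ hφ
    ↥(Algebra.adjoin A (Set.range f)) 1
  have hft := topFiniteType_of_trunc R _ hI ↥(Algebra.adjoin A (Set.range f)) h0
  exact ⟨s11525 R _ hR _ hft hnt', hnt'⟩

end Groth.Agent.H8.RGV
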