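import Groth.Agent.Lib.Helper8.RGV.S30
import Mathlib.RingTheory.RingHom.FinitePresentation
import Mathlib.RingTheory.RingHom.FiniteType
import Mathlib.RingTheory.Localization.Away.AdjoinRoot

/-!
# helper8: complete localizations `A⟨f⁻¹⟩` and their truncations

`A⟨f⁻¹⟩ / I^k A⟨f⁻¹⟩` is the localization of `A / I^k A` at `f`.  Consequences:
topological finite type / finite presentation is local for complete localizations
(S11534, S11535).
-/

set_option autoImplicit false
universe u

open AdicRing

namespace Groth.Agent.H8.RGV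

section CLocGen

variable (R : Type u) [CommRing R] (I : Ideal R) (A : Type u) [CommRing A] [Algebra R A] (f : A)

local notation "L" => Localization.Away f
local notation "B" => AdicRing.CLoc I f

instance cloc_tower₁ : IsScalarTower R (Localization.Away f) (AdicRing.CLoc I f) :=
  IsScalarTower.of_algebraMap_eq (fun _ => rfl)

instance cloc_tower₂ : IsScalarTower A (Localization.Away f) (AdicRing.CLoc I f) :=
  IsScalarTower.of_algebraMap_eq (fun _ => rfl)

instance cloc_tower₃ : IsScalarTower R A (AdicRing.CLoc I f) :=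
  IsScalarTower.of_algebraMap_eq (fun r => by
    show AdicCompletion.of _ _ (algebraMap R (Localization.Away f) r) =
      AdicCompletion.of _ _ (algebraMap A (Localization.Away f) (algebraMap R A r))
    rw [← IsScalarTower.algebraMap_apply])

variable (k : ℕ)

theorem cloc_pow_map :
    ((I.map (algebraMap R L)) ^ k).map (algebraMap L B) = (I ^ k).map (algebraMap R B) := by
  rw [← Ideal.map_pow, Ideal.map_map, ← IsScalarTower.algebraMap_eq]

theorem cloc_complete (hI : I.FG) : IsAdicComplete (I.map (algebraMap R B)) B := by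
  have h := CT.isAdicComplete_map (I.map (algebraMap R L)) (hI.map _)
  rwa [Ideal.map_map, ← IsScalarTower.algebraMap_eq] at h

theorem cloc_exists_sub_mem (hI : I.FG) (b : B) :
    ∃ x : L, b - algebraMap L B x ∈ (I ^ k).map (algebraMap R B) := by
  obtain ⟨x, hx⟩ := CT.exists_sub_mem (I.map (algebraMap R L)) (hI.map _) b k
  exact ⟨x, by rw [← cloc_pow_map]; exact hx⟩

theorem cloc_mem_iff (hI : I.FG) (x : L) :
    algebraMap L B x ∈ (I ^ k).map (algebraMap R B) ↔ x ∈ (I ^ k).map (algebraMap R L) := by
  constructor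
  · intro h
    rw [← cloc_pow_map, ← CT.ker_evalₐ _ (hI.map _) k, RingHom.mem_ker] at h
    have h2 : AdicCompletion.evalₐ (I.map (algebraMap R L)) k (algebraMap L B x) =
        Ideal.Quotient.mk _ x := (AdicCompletion.evalₐ _ k).commutes x
    have h3 : Ideal.Quotient.mk ((I.map (algebraMap R L)) ^ k) x = 0 := by
      rw [← h2]; exact h
    rw [Ideal.Quotient.eq_zero_iff_mem, ← Ideal.map_pow] at h3
    exact h3
  · intro h
    have := Ideal.mem_map_of_mem (algebraMap L B) h
    rwa [Ideal.map_map, ← IsScalarTower.algebraMap_eq] at this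

/-- the map `A / I^k A → A⟨f⁻¹⟩ / I^k A⟨f⁻¹⟩` -/
noncomputable def gk :
    A ⧸ (I ^ k).map (algebraMap R A) →+* B ⧸ (I ^ k).map (algebraMap R B) :=
  Ideal.quotientMap _ (algebraMap A B) (by
    rw [← Ideal.map_le_iff_le_comap, Ideal.map_map, ← IsScalarTower.algebraMap_eq])

theorem gk_mk (a : A) :
    gk R I A f k (Ideal.Quotient.mk _ a) = Ideal.Quotient.mk _ (algebraMap A B a) := rfl

theorem gk_comp_algebraMap :
    (gk R I A f k).comp (algebraMap R (A ⧸ (I ^ k).map (algebraMap R A))) =
      algebraMap R (B ⧸ (I ^ k).map (algebraMap R B)) := by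
  ext r
  show Ideal.Quotient.mk _ (algebraMap A B (algebraMap R A r)) =
    Ideal.Quotient.mk _ (algebraMap R B r)
  rw [← IsScalarTower.algebraMap_apply]

theorem gk_isLocalization (hI : I.FG) :
    letI := (gk R I A f k).toAlgebra
    IsLocalization.Away (Ideal.Quotient.mk ((I ^ k).map (algebraMap R A)) f)
      (B ⧸ (I ^ k).map (algebraMap R B)) := by
  letI := (gk R I A f k).toAlgebra
  have halg : ∀ x, algebraMap (A ⧸ (I ^ k).map (algebraMap R A))
      (B ⧸ (I ^ k).map (algebraMap R B)) x = gk R I A f k x := fun _ => rfl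
  refine (isLocalization_iff _ _).mpr ⟨?_, ?_, ?_⟩
  · rintro ⟨_, n, rfl⟩
    rw [halg, map_pow]
    apply IsUnit.pow
    rw [gk_mk]
    have h1 : IsUnit (algebraMap A L f) := IsLocalization.Away.algebraMap_isUnit f
    have h2 : IsUnit (algebraMap A B f) := by
      rw [IsScalarTower.algebraMap_apply A L B]; exact h1.map _
    exact h2.map _
  · intro z
    obtain ⟨b, rfl⟩ := Ideal.Quotient.mk_surjective z
    obtain ⟨x, hx⟩ := cloc_exists_sub_mem R I A f k hI b
    obtain ⟨⟨a, s⟩, hs⟩ := IsLocalization.surj (Submonoid.powers f) x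
    refine ⟨⟨Ideal.Quotient.mk _ a, ⟨Ideal.Quotient.mk _ s.1, ?_⟩⟩, ?_⟩
    · obtain ⟨n, hn⟩ := s.2
      have hn' : f ^ n = (s : A) := hn
      exact ⟨n, by
        show (Ideal.Quotient.mk ((I ^ k).map (algebraMap R A)) f) ^ n = _
        rw [← map_pow, hn']⟩
    · show Ideal.Quotient.mk _ b * gk R I A f k (Ideal.Quotient.mk _ s.1) =
        gk R I A f k (Ideal.Quotient.mk _ a)
      rw [gk_mk, gk_mk, ← map_mul, Ideal.Quotient.eq]
      have h3 : algebraMap A B a = algebraMap L B x * algebraMap A B s.1 := by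
        rw [IsScalarTower.algebraMap_apply A L B a, ← hs, map_mul,
          ← IsScalarTower.algebraMap_apply]
      rw [h3, ← sub_mul]
      exact Ideal.mul_mem_right _ _ hx
  · intro x y hxy
    obtain ⟨a, rfl⟩ := Ideal.Quotient.mk_surjective x
    obtain ⟨a', rfl⟩ := Ideal.Quotient.mk_surjective y
    rw [halg, halg, gk_mk, gk_mk, Ideal.Quotient.eq, ← map_sub,
      IsScalarTower.algebraMap_apply A L B, cloc_mem_iff R I A f k hI] at hxy
    have h4 : (I ^ k).map (algebraMap R L) =
        ((I ^ k).map (algebraMap R A)).map (algebraMap A L) := by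
      rw [Ideal.map_map, ← IsScalarTower.algebraMap_eq]
    rw [h4, IsLocalization.mem_map_algebraMap_iff (Submonoid.powers f)] at hxy
    obtain ⟨⟨i, s⟩, h5⟩ := hxy
    rw [← map_mul, IsLocalization.eq_iff_exists (Submonoid.powers f)] at h5
    obtain ⟨c, hc⟩ := h5
    obtain ⟨n, hn⟩ := (c * s).2
    have hn' : f ^ n = ((c * s : Submonoid.powers f) : A) := hn
    refine ⟨⟨Ideal.Quotient.mk _ ((c * s : Submonoid.powers f) : A), n, by
      show (Ideal.Quotient.mk ((I ^ k).map (algebraMap R A)) f) ^ n = _
      rw [← map_pow, hn']⟩, ?_⟩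
    show Ideal.Quotient.mk _ ((c * s : Submonoid.powers f) : A) * Ideal.Quotient.mk _ a =
      Ideal.Quotient.mk _ ((c * s : Submonoid.powers f) : A) * Ideal.Quotient.mk _ a'
    rw [← map_mul, ← map_mul, Ideal.Quotient.eq]
    have h6 : ((c * s : Submonoid.powers f) : A) * a - ((c * s : Submonoid.powers f) : A) * a' =
        (c : A) * ((a - a') * (s : A)) := by
      rw [Submonoid.coe_mul]; ring
    rw [h6, hc]
    exact Ideal.mul_mem_left _ _ i.2

theorem cloc_trunc_finiteType (hI : I.FG)
    (h : Algebra.FiniteType R (A ⧸ (I ^ k).map (algebraMap R A))) :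
    Algebra.FiniteType R (B ⧸ (I ^ k).map (algebraMap R B)) := by
  letI := (gk R I A f k).toAlgebra
  haveI := gk_isLocalization R I A f k hI
  have h1 : Algebra.FiniteType (A ⧸ (I ^ k).map (algebraMap R A))
      (B ⧸ (I ^ k).map (algebraMap R B)) :=
    haveI : Algebra.FinitePresentation (A ⧸ (I ^ k).map (algebraMap R A))
      (B ⧸ (I ^ k).map (algebraMap R B)) := IsLocalization.Away.finitePresentation
      (Ideal.Quotient.mk ((I ^ k).map (algebraMap R A)) f)
    Algebra.FiniteType.of_finitePresentation
  have h2 : (gk R I A f k).FiniteType := RingHom.finiteType_algebraMap.mpr h1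
  have h3 := h2.comp (RingHom.finiteType_algebraMap.mpr h)
  rw [gk_comp_algebraMap, RingHom.finiteType_algebraMap] at h3
  exact h3

theorem cloc_trunc_fp (hI : I.FG)
    (h : Algebra.FinitePresentation R (A ⧸ (I ^ k).map (algebraMap R A))) :
    Algebra.FinitePresentation R (B ⧸ (I ^ k).map (algebraMap R B)) := by
  letI := (gk R I A f k).toAlgebra
  haveI := gk_isLocalization R I A f k hI
  have h1 : Algebra.FinitePresentation (A ⧸ (I ^ k).map (algebraMap R A))
      (B ⧸ (I ^ k).map (algebraMap R B)) :=
    IsLocalization.Away.finitePresentation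
      (Ideal.Quotient.mk ((I ^ k).map (algebraMap R A)) f)
  have h2 : (gk R I A f k).FinitePresentation := RingHom.finitePresentation_algebraMap.mpr h1
  have h3 := h2.comp (RingHom.finitePresentation_algebraMap.mpr h)
  rw [gk_comp_algebraMap, RingHom.finitePresentation_algebraMap] at h3
  exact h3

end CLocGen

section Span

variable (R : Type u) [CommRing R] (I : Ideal R) (hI : I.FG) (A : Type u) [CommRing A]
  [Algebra R A] (r : ℕ) (f : Fin r → A) (hf : Ideal.span (Set.range f) = ⊤) (k : ℕ)

include hf in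
theorem span_mk_eq_top : Ideal.span (Set.range
    (fun i => Ideal.Quotient.mk ((I ^ k).map (algebraMap R A)) (f i))) = ⊤ := by
  have : Set.range (fun i => Ideal.Quotient.mk ((I ^ k).map (algebraMap R A)) (f i)) =
      (Ideal.Quotient.mk ((I ^ k).map (algebraMap R A))) '' Set.range f := by
    rw [← Set.range_comp]; rfl
  rw [this, ← Ideal.map_span, hf, Ideal.map_top]

include hI hf in
theorem trunc_finiteType_of_cloc
    (h : ∀ i, Algebra.FiniteType R
      (CLoc I (f i) ⧸ (I ^ k).map (algebraMap R (CLoc I (f i))))) :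
    Algebra.FiniteType R (A ⧸ (I ^ k).map (algebraMap R A)) := by
  rw [← RingHom.finiteType_algebraMap]
  refine RingHom.finiteType_ofLocalizationSpanTarget.ofIsLocalization
    RingHom.finiteType_respectsIso _ _ (span_mk_eq_top R I A r f hf k) ?_
  rintro ⟨_, i, rfl⟩
  refine ⟨CLoc I (f i) ⧸ (I ^ k).map (algebraMap R (CLoc I (f i))), inferInstance,
    (gk R I A (f i) k).toAlgebra, gk_isLocalization R I A (f i) k hI, ?_⟩
  show ((gk R I A (f i) k).comp (algebraMap R _)).FiniteType
  rw [gk_comp_algebraMap, RingHom.finiteType_algebraMap]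
  exact h i

include hI hf in
theorem trunc_fp_of_cloc
    (h : ∀ i, Algebra.FinitePresentation R
      (CLoc I (f i) ⧸ (I ^ k).map (algebraMap R (CLoc I (f i))))) :
    Algebra.FinitePresentation R (A ⧸ (I ^ k).map (algebraMap R A)) := by
  rw [← RingHom.finitePresentation_algebraMap]
  refine RingHom.finitePresentation_ofLocalizationSpanTarget.ofIsLocalization
    RingHom.finitePresentation_respectsIso _ _ (span_mk_eq_top R I A r f hf k) ?_
  rintro ⟨_, i, rfl⟩
  refine ⟨CLoc I (f i) ⧸ (I ^ k).map (algebraMap R (CLoc I (f i))), inferInstance,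
    (gk R I A (f i) k).toAlgebra, gk_isLocalization R I A (f i) k hI, ?_⟩
  show ((gk R I A (f i) k).comp (algebraMap R _)).FinitePresentation
  rw [gk_comp_algebraMap, RingHom.finitePresentation_algebraMap]
  exact h i

end Span

theorem quotientMap_fp_iff (R : Type u) [CommRing R] (I : Ideal R) (hI : I.FG)
    (A : Type u) [CommRing A] [Algebra R A] (k : ℕ) :
    (Ideal.quotientMap ((I ^ k).map (algebraMap R A)) (algebraMap R A)
      Ideal.le_comap_map).FinitePresentation ↔
      Algebra.FinitePresentation R (A ⧸ (I ^ k).map (algebraMap R A)) := by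
  constructor
  · intro h
    have h2 : (Ideal.Quotient.mk (I ^ k)).FinitePresentation := by
      refine RingHom.FinitePresentation.of_surjective _ Ideal.Quotient.mk_surjective ?_
      rw [Ideal.mk_ker]
      exact hI.pow
    have h3 := h.comp h2
    rw [quotientMap_comp_mk, RingHom.finitePresentation_algebraMap] at h3
    exact h3
  · intro h
    refine RingHom.FinitePresentation.of_comp_finiteType (Ideal.Quotient.mk (I ^ k)) ?_
      (RingHom.FiniteType.of_surjective _ Ideal.Quotient.mk_surjective)
    rw [quotientMap_comp_mk, RingHom.finitePresentation_algebraMap]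
    exact h

theorem isBase_fg' (R : Type u) [CommRing R] (I : Ideal R) (hR : AdicRing.IsBase R I) : I.FG := by
  obtain ⟨-, ⟨hN, -⟩ | ⟨-, -, -, t, -, rfl⟩⟩ := hR
  · exact IsNoetherian.noetherian I
  · exact ⟨{t}, by simp⟩

/-- S11534 -/
theorem s11534 (R : Type u) [CommRing R] (I : Ideal R) (hR : AdicRing.IsBase R I)
    (A : Type u) [CommRing A] [Algebra R A] [IsAdicComplete (I.map (algebraMap R A)) A]
    (r : ℕ) (f : Fin r → A) (hf : Ideal.span (Set.range f) = ⊤) :
    AdicRing.TopFiniteType R I A ↔ ∀ i, AdicRing.TopFiniteType R I (AdicRing.CLoc I (f i)) := by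
  have hI : I.FG := isBase_fg' R I hR
  constructor
  · rintro ⟨d, φ, hφ⟩ i
    haveI := cloc_complete R I A (f i) hI
    apply topFiniteType_of_trunc R I hI
    apply cloc_trunc_finiteType R I A (f i) 1 hI
    exact Algebra.FiniteType.of_surjective (rho R I d A φ 1) (rho_surjective R I d A φ hφ hI 1)
  · intro h
    apply topFiniteType_of_trunc R I hI
    apply trunc_finiteType_of_cloc R I hI A r f hf 1
    intro i
    obtain ⟨d, φ, hφ⟩ := h i
    exact Algebra.FiniteType.of_surjective (rho R I d _ φ 1) (rho_surjective R I d _ φ hφ hI 1)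

/-- S11535 -/
theorem s11535 (R : Type u) [CommRing R] (I : Ideal R) (hR : AdicRing.IsBase R I)
    (A : Type u) [CommRing A] [Algebra R A] [IsAdicComplete (I.map (algebraMap R A)) A]
    (r : ℕ) (f : Fin r → A) (hf : Ideal.span (Set.range f) = ⊤) :
    AdicRing.TopFinitePresentation R I A ↔
      ∀ i, AdicRing.TopFinitePresentation R I (AdicRing.CLoc I (f i)) := by
  have hI : I.FG := isBase_fg' R I hR
  constructor
  · rintro ⟨d, φ, hφ, hker⟩ i
    haveI := cloc_complete R I A (f i) hI
    rw [s11530 R I hR]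
    intro n
    rw [quotientMap_fp_iff R I hI]
    apply cloc_trunc_fp R I A (f i) (n + 1) hI
    exact trunc_fp R I d A φ hφ hI (n + 1) hker
  · intro h
    rw [s11530 R I hR]
    intro n
    rw [quotientMap_fp_iff R I hI]
    apply trunc_fp_of_cloc R I hI A r f hf (n + 1)
    intro i
    obtain ⟨d, φ, hφ, hker⟩ := h i
    exact trunc_fp R I d _ φ hφ hI (n + 1) hker

end Groth.Agent.H8.RGV
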