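import Groth.Agent.Lib.Helper8.RGV.CLocFlat
import Mathlib.LinearAlgebra.TensorProduct.Pi
import Mathlib.RingTheory.Flat.FaithfullyFlat.Algebra

/-!
# helper8: admissibility is local for complete localizations (S11536)
-/

set_option autoImplicit false
universe u

open AdicRing TensorProduct

namespace Groth.Agent.H8.RGV

/-- flat base change preserves the absence of `I`-power torsion (`I` finitely generated) -/
theorem noPowTorsion_of_flat (R : Type u) [CommRing R] (I : Ideal R) (hI : I.FG)
    (A : Type u) [CommRing A] [Algebra R A] (B : Type u) [CommRing B] [Algebra R B] [Algebra A B]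
    [IsScalarTower R A B] [Module.Flat A B] (h : AdicRing.NoPowTorsion I A) :
    AdicRing.NoPowTorsion I B := by
  classical
  intro b n hb
  obtain ⟨S, hS⟩ : (I ^ n).FG := hI.pow
  obtain ⟨g, hg⟩ : ∃ g : A →ₗ[A] (S → A),
      g = LinearMap.pi (fun s : S => LinearMap.lsmul A A (algebraMap R A s.1)) := ⟨_, rfl⟩
  have hgapp : ∀ (x : A) (s : S), g x s = algebraMap R A s.1 * x := by
    intro x s
    rw [hg, LinearMap.pi_apply, LinearMap.lsmul_apply, smul_eq_mul]
  have hginj : Function.Injective g := by
    rw [injective_iff_map_eq_zero]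
    intro x hx
    apply h x n
    intro a ha
    rw [← hS] at ha
    induction ha using Submodule.span_induction with
    | mem s hs =>
      have := congrFun hx ⟨s, hs⟩
      rw [hgapp] at this
      rw [Algebra.smul_def]
      exact this
    | zero => rw [zero_smul]
    | add y z _ _ hy hz => rw [add_smul, hy, hz, add_zero]
    | smul c y _ hy => rw [smul_eq_mul, mul_smul, hy, smul_zero]
  have hinj := Module.Flat.lTensor_preserves_injective_linearMap (M := B) g hginj
  have h1 : g.lTensor B (b ⊗ₜ[A] (1 : A)) = 0 := by
    rw [LinearMap.lTensor_tmul]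
    apply (TensorProduct.piScalarRight A A B S).injective
    rw [map_zero, TensorProduct.piScalarRight_apply, TensorProduct.piScalarRightHom_tmul]
    funext s
    rw [hgapp, mul_one, Pi.zero_apply, algebraMap_smul]
    apply hb
    rw [← hS]
    exact Ideal.subset_span s.2
  have h2 : b ⊗ₜ[A] (1 : A) = 0 := hinj (by rw [h1, map_zero])
  have h3 := congrArg (TensorProduct.rid A B) h2
  rwa [TensorProduct.rid_tmul, one_smul, map_zero] at h3

/-- S11536 -/
theorem s11536 (R : Type u) [CommRing R] (I : Ideal R) (hR : AdicRing.IsBase R I)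
    (A : Type u) [CommRing A] [Algebra R A] [IsAdicComplete (I.map (algebraMap R A)) A]
    (r : ℕ) (f : Fin r → A) (hf : Ideal.span (Set.range f) = ⊤) :
    AdicRing.Admissible R I A ↔ ∀ i, AdicRing.Admissible R I (AdicRing.CLoc I (f i)) := by
  have hI := isBase_fg' R I hR
  constructor
  · rintro ⟨hfp, htor⟩ i
    have hft : TopFiniteType R I A := by
      obtain ⟨d, φ, hφ, -⟩ := hfp
      exact ⟨d, φ, hφ⟩
    refine ⟨(s11535 R I hR A r f hf).mp hfp i, ?_⟩
    haveI := cloc_flat R I hR A hft (f i)
    exact noPowTorsion_of_flat R I hI A (CLoc I (f i)) htor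
  · intro h
    have hfp := (s11535 R I hR A r f hf).mpr (fun i => (h i).1)
    refine ⟨hfp, ?_⟩
    have hft : TopFiniteType R I A := by
      obtain ⟨d, φ, hφ, -⟩ := hfp
      exact ⟨d, φ, hφ⟩
    haveI := (s11533 R I hR A hft r f hf).2
    intro x n hx
    apply FaithfulSMul.algebraMap_injective A (∀ i, CLoc I (f i))
    rw [map_zero]
    funext i
    rw [Pi.algebraMap_apply, Pi.zero_apply]
    apply (h i).2 _ n
    intro a ha
    have : a • algebraMap A (CLoc I (f i)) x = algebraMap A (CLoc I (f i)) (a • x) := by
      rw [Algebra.smul_def, Algebra.smul_def, map_mul, ← IsScalarTower.algebraMap_apply]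
    rw [this, hx a ha, map_zero]

end Groth.Agent.H8.RGV
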