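import Groth.Agent.Lib.Helper8.RGV.Flat

/-!
# helper8: faithful flatness via truncations
-/

set_option autoImplicit false
universe u

open MvPolynomial IsLocalRing AdicRing TensorProduct Function

namespace Groth.Agent.H8.RGV

theorem isBase_fg (R : Type u) [CommRing R] (I : Ideal R) (hR : AdicRing.IsBase R I) : I.FG := by
  obtain ⟨-, ⟨hN, -⟩ | ⟨-, -, -, t, -, rfl⟩⟩ := hR
  · exact IsNoetherian.noetherian I
  · exact ⟨{t}, by simp⟩

/-- S11532 -/
theorem s11532 (R : Type u) [CommRing R] (I : Ideal R) (hR : AdicRing.IsBase R I)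
    (A : Type u) [CommRing A] [Algebra R A] (hA : AdicRing.TopFiniteType R I A)
    (B : Type u) [CommRing B] [Algebra R B] [Algebra A B] [IsScalarTower R A B]
    (hB : AdicRing.TopFiniteType R I B)
    (M : Type u) [AddCommGroup M] [Module B M] [Module A M] [IsScalarTower A B M]
    [Module.Finite B M] :
    Module.FaithfullyFlat A M ↔
      ∀ n : ℕ, Module.FaithfullyFlat (AdicRing.trunc A I n) ((AdicRing.trunc A I n) ⊗[A] M) := by
  constructor
  · intro hf n
    infer_instance
  · intro h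
    haveI hflat : Module.Flat A M :=
      (s11531 R I hR A hA B hB M).mpr (fun n => (h n).toFlat)
    have hIfg := isBase_fg R I hR
    obtain ⟨dA, φA, hφA⟩ := hA
    have hjac := jac_gen R I dA A φA hφA hIfg
    refine ⟨fun 𝔪 h𝔪 htop => ?_⟩
    obtain ⟨K, hK⟩ : ∃ K : Ideal A, K = (I ^ (0 + 1)).map (algebraMap R A) := ⟨_, rfl⟩
    have hK𝔪 : K ≤ 𝔪 := by
      rw [hK]
      refine (Ideal.map_mono (Ideal.pow_le_self (by norm_num))).trans (hjac.trans ?_)
      intro x hx
      exact Ideal.mem_sInf.mp hx ⟨bot_le, h𝔪⟩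
    obtain ⟨𝔪₀, h𝔪₀def⟩ : ∃ 𝔪₀ : Ideal (A ⧸ K), 𝔪₀ = 𝔪.map (Ideal.Quotient.mk K) := ⟨_, rfl⟩
    have h𝔪₀ : 𝔪₀ ≠ ⊤ := by
      intro htop'
      have h1 : Ideal.comap (Ideal.Quotient.mk K) 𝔪₀ = 𝔪 := by
        rw [h𝔪₀def, Ideal.comap_map_of_surjective _ Ideal.Quotient.mk_surjective,
          ← RingHom.ker_eq_comap_bot, Ideal.mk_ker, sup_eq_left.mpr hK𝔪]
      rw [htop', Ideal.comap_top] at h1
      exact h𝔪.ne_top h1.symm
    have hff : Module.FaithfullyFlat (A ⧸ K) ((A ⧸ K) ⊗[A] M) := by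
      rw [hK]; exact h 0
    have h2 := ((Module.FaithfullyFlat.iff_flat_and_proper_ideal _ _).mp hff).2 𝔪₀ h𝔪₀
    apply h2
    rw [eq_top_iff]
    intro z hz
    clear hz
    induction z using TensorProduct.induction_on with
    | zero => exact Submodule.zero_mem _
    | add x y hx hy => exact Submodule.add_mem _ hx hy
    | tmul a m =>
      have hm : m ∈ 𝔪 • (⊤ : Submodule A M) := by rw [htop]; exact Submodule.mem_top
      refine Submodule.smul_induction_on hm ?_ ?_
      · intro c hc m' _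
        have h3 : a ⊗ₜ[A] (c • m') = (Ideal.Quotient.mk K c) • (a ⊗ₜ[A] m') := by
          rw [← TensorProduct.smul_tmul, TensorProduct.smul_tmul', Algebra.smul_def]
          rfl
        rw [h3, h𝔪₀def]
        exact Submodule.smul_mem_smul (Ideal.mem_map_of_mem _ hc) Submodule.mem_top
      · intro m₁ m₂ h₁ h₂
        rw [TensorProduct.tmul_add]
        exact Submodule.add_mem _ h₁ h₂

end Groth.Agent.H8.RGV
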