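import Groth.Agent.Lib.Helper8.RGV.CLocA
import Groth.Agent.Lib.Helper8.RGV.FFlat
import Mathlib.RingTheory.Flat.Localization
import Mathlib.RingTheory.TensorProduct.Quotient

/-!
# helper8: complete localizations are flat; a standard covering is faithfully flat (S11533)
-/

set_option autoImplicit false
universe u

open AdicRing TensorProduct

namespace Groth.Agent.H8.RGV

theorem complete_of_topFiniteType (R : Type u) [CommRing R] (I : Ideal R)
    (hR : AdicRing.IsBase R I) (A : Type u) [CommRing A] [Algebra R A]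
    (hA : AdicRing.TopFiniteType R I A) : IsAdicComplete (I.map (algebraMap R A)) A :=
  (IsAdicComplete.map_algebraMap_iff _ _).mpr (s11529 R I hR A hA A)

theorem cloc_topFiniteType (R : Type u) [CommRing R] (I : Ideal R) (hI : I.FG)
    (A : Type u) [CommRing A] [Algebra R A] (hA : AdicRing.TopFiniteType R I A) (f : A) :
    AdicRing.TopFiniteType R I (CLoc I f) := by
  obtain ⟨d, φ, hφ⟩ := hA
  haveI := cloc_complete R I A f hI
  apply topFiniteType_of_trunc R I hI
  apply cloc_trunc_finiteType R I A f 1 hI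
  exact Algebra.FiniteType.of_surjective (rho R I d A φ 1) (rho_surjective R I d A φ hφ hI 1)

theorem isLocalization_quot (R : Type u) [CommRing R] (I : Ideal R) (hI : I.FG)
    (A : Type u) [CommRing A] [Algebra R A] (f : A) (k : ℕ)
    (h : (I ^ k).map (algebraMap R A) ≤
      Ideal.comap (algebraMap A (CLoc I f)) ((I ^ k).map (algebraMap R (CLoc I f)))) :
    letI := Ideal.Quotient.algebraQuotientOfLEComap h
    IsLocalization.Away (Ideal.Quotient.mk ((I ^ k).map (algebraMap R A)) f)
      (CLoc I f ⧸ (I ^ k).map (algebraMap R (CLoc I f))) := by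
  letI inst2 := Ideal.Quotient.algebraQuotientOfLEComap h
  have h1 := gk_isLocalization R I A f k hI
  exact (isLocalization_iff _ _).mpr
    ((@isLocalization_iff _ _ _ _ _ (gk R I A f k).toAlgebra).mp h1)

theorem flat_congr_ideal {A B : Type*} [CommRing A] [CommRing B] [Algebra A B] (𝔞 : Ideal A)
    (K K' : Ideal B) (hK : K = K') (h : 𝔞 ≤ K.comap (algebraMap A B))
    (h' : 𝔞 ≤ K'.comap (algebraMap A B))
    (hflat : letI := Ideal.Quotient.algebraQuotientOfLEComap h; Module.Flat (A ⧸ 𝔞) (B ⧸ K)) :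
    letI := Ideal.Quotient.algebraQuotientOfLEComap h'; Module.Flat (A ⧸ 𝔞) (B ⧸ K') := by
  subst hK
  exact hflat

theorem cloc_trunc_flat (R : Type u) [CommRing R] (I : Ideal R) (hI : I.FG)
    (A : Type u) [CommRing A] [Algebra R A] (f : A) (n : ℕ) :
    Module.Flat (AdicRing.trunc A I n) ((AdicRing.trunc A I n) ⊗[A] CLoc I f) := by
  have hle : (I ^ (n + 1)).map (algebraMap R A) ≤ Ideal.comap (algebraMap A (CLoc I f))
      ((I ^ (n + 1)).map (algebraMap R (CLoc I f))) := by
    rw [← Ideal.map_le_iff_le_comap, Ideal.map_map, ← IsScalarTower.algebraMap_eq]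
  have hK : (I ^ (n + 1)).map (algebraMap R (CLoc I f)) =
      ((I ^ (n + 1)).map (algebraMap R A)).map (algebraMap A (CLoc I f)) := by
    rw [Ideal.map_map, ← IsScalarTower.algebraMap_eq]
  have hflat1 : letI := Ideal.Quotient.algebraQuotientOfLEComap hle
      Module.Flat (A ⧸ (I ^ (n + 1)).map (algebraMap R A))
        (CLoc I f ⧸ (I ^ (n + 1)).map (algebraMap R (CLoc I f))) := by
    letI := Ideal.Quotient.algebraQuotientOfLEComap hle
    haveI := isLocalization_quot R I hI A f (n + 1) hle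
    exact IsLocalization.flat _ (Submonoid.powers (Ideal.Quotient.mk _ f))
  have hflat2 := flat_congr_ideal ((I ^ (n + 1)).map (algebraMap R A)) _ _ hK hle
    Ideal.le_comap_map hflat1
  haveI : Module.Flat (A ⧸ (I ^ (n + 1)).map (algebraMap R A))
      (CLoc I f ⧸ ((I ^ (n + 1)).map (algebraMap R A)).map (algebraMap A (CLoc I f))) := hflat2
  exact Module.Flat.of_linearEquiv (Algebra.TensorProduct.quotIdealMapEquivQuotTensor (CLoc I f)
    ((I ^ (n + 1)).map (algebraMap R A))).symm.toLinearEquiv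

theorem cloc_flat (R : Type u) [CommRing R] (I : Ideal R) (hR : AdicRing.IsBase R I)
    (A : Type u) [CommRing A] [Algebra R A] (hA : AdicRing.TopFiniteType R I A) (f : A) :
    Module.Flat A (CLoc I f) := by
  have hI := isBase_fg' R I hR
  have hB := cloc_topFiniteType R I hI A hA f
  exact (s11531 R I hR A hA (CLoc I f) hB (CLoc I f)).mpr
    (fun n => cloc_trunc_flat R I hI A f n)

/-- S11533 -/
theorem s11533 (R : Type u) [CommRing R] (I : Ideal R) (hR : AdicRing.IsBase R I)
    (A : Type u) [CommRing A] [Algebra R A] (hA : AdicRing.TopFiniteType R I A)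
    (r : ℕ) (f : Fin r → A) (hf : Ideal.span (Set.range f) = ⊤) :
    (∀ i, Module.Flat A (AdicRing.CLoc I (f i))) ∧
      Module.FaithfullyFlat A (∀ i, AdicRing.CLoc I (f i)) := by
  have hI := isBase_fg' R I hR
  haveI hcomp := complete_of_topFiniteType R I hR A hA
  have hflat : ∀ i, Module.Flat A (CLoc I (f i)) := fun i => cloc_flat R I hR A hA (f i)
  refine ⟨hflat, ?_⟩
  haveI := hflat
  haveI : Module.Flat A (∀ i, CLoc I (f i)) :=
    Module.Flat.of_linearEquiv
      (DirectSum.linearEquivFunOnFintype A (Fin r) (fun i => CLoc I (f i))).symm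
  refine { toFlat := inferInstance, submodule_ne_top := ?_ }
  intro 𝔪 h𝔪 htop
  have hIm : I.map (algebraMap R A) ≤ 𝔪 :=
    (IsAdicComplete.le_jacobson_bot _).trans (sInf_le ⟨bot_le, h𝔪⟩)
  obtain ⟨i, hi⟩ : ∃ i, f i ∉ 𝔪 := by
    by_contra hcon
    push_neg at hcon
    have : Ideal.span (Set.range f) ≤ 𝔪 :=
      Ideal.span_le.mpr (by rintro _ ⟨i, rfl⟩; exact hcon i)
    rw [hf] at this
    exact h𝔪.ne_top (top_le_iff.mp this)
  have h𝔞 : (I ^ 1).map (algebraMap R A) ≤ 𝔪 := by rwa [pow_one]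
  letI := (gk R I A (f i) 1).toAlgebra
  haveI := gk_isLocalization R I A (f i) 1 hI
  obtain ⟨𝔪', h𝔪'⟩ : ∃ 𝔪' : Ideal (A ⧸ (I ^ 1).map (algebraMap R A)),
      𝔪' = 𝔪.map (Ideal.Quotient.mk _) := ⟨_, rfl⟩
  have hdisj : Disjoint
      (Submonoid.powers (Ideal.Quotient.mk ((I ^ 1).map (algebraMap R A)) (f i)) :
        Set (A ⧸ (I ^ 1).map (algebraMap R A)))
      (𝔪' : Set (A ⧸ (I ^ 1).map (algebraMap R A))) := by
    rw [Set.disjoint_left]
    rintro _ ⟨n, rfl⟩ hmem
    rw [h𝔪'] at hmem
    have hmem' : (Ideal.Quotient.mk ((I ^ 1).map (algebraMap R A)) (f i)) ^ n ∈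
        𝔪.map (Ideal.Quotient.mk ((I ^ 1).map (algebraMap R A))) := hmem
    rw [← map_pow, Ideal.mem_map_iff_of_surjective _ Ideal.Quotient.mk_surjective] at hmem'
    obtain ⟨m, hm, hmeq⟩ := hmem'
    rw [Ideal.Quotient.eq] at hmeq
    have : f i ^ n ∈ 𝔪 := by
      have h2 := 𝔪.sub_mem hm (h𝔞 hmeq)
      rwa [sub_sub_cancel] at h2
    exact hi (h𝔪.isPrime.mem_of_pow_mem n this)
  have hne := (IsLocalization.map_algebraMap_ne_top_iff_disjoint
    (Submonoid.powers (Ideal.Quotient.mk ((I ^ 1).map (algebraMap R A)) (f i)))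
    (CLoc I (f i) ⧸ (I ^ 1).map (algebraMap R (CLoc I (f i)))) 𝔪').mpr hdisj
  apply hne
  rw [Ideal.eq_top_iff_one]
  have hkey : ∀ x ∈ 𝔪 • (⊤ : Submodule A (∀ i, CLoc I (f i))),
      Ideal.Quotient.mk ((I ^ 1).map (algebraMap R (CLoc I (f i)))) (x i) ∈
        Ideal.map (algebraMap (A ⧸ (I ^ 1).map (algebraMap R A))
          (CLoc I (f i) ⧸ (I ^ 1).map (algebraMap R (CLoc I (f i))))) 𝔪' := by
    intro x hx
    refine Submodule.smul_induction_on hx ?_ ?_
    · intro m hm y _
      have h1 : (m • y) i = algebraMap A (CLoc I (f i)) m * y i := by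
        rw [Pi.smul_apply, Algebra.smul_def]
      rw [h1, map_mul]
      apply Ideal.mul_mem_right
      have h2 : Ideal.Quotient.mk ((I ^ 1).map (algebraMap R (CLoc I (f i))))
          (algebraMap A (CLoc I (f i)) m) =
          algebraMap (A ⧸ (I ^ 1).map (algebraMap R A))
            (CLoc I (f i) ⧸ (I ^ 1).map (algebraMap R (CLoc I (f i))))
            (Ideal.Quotient.mk _ m) := rfl
      rw [h2]
      apply Ideal.mem_map_of_mem
      rw [h𝔪']
      exact Ideal.mem_map_of_mem _ hm
    · intro x y hx hy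
      rw [Pi.add_apply, map_add]
      exact Ideal.add_mem _ hx hy
  have h1 := hkey 1 (by rw [htop]; exact Submodule.mem_top)
  rwa [Pi.one_apply, map_one] at h1

end Groth.Agent.H8.RGV
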