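import Groth.Agent.Lib.Helper8.RGV.Poly
import Groth.Agent.Lib.Helper8.RGV.CLocAdm

/-!
# helper8: torsion of the completed chart algebras of a blowing-up (S11540)
-/

set_option autoImplicit false
universe u

open MvPolynomial AdicRing TensorProduct

namespace Groth.Agent.H8.RGV

/-- the ideal of `I`-power torsion elements -/
def powTors {R : Type*} [CommRing R] (I : Ideal R) (C : Type*) [CommRing C] [Algebra R C] :
    Ideal C where
  carrier := {y | ∃ n : ℕ, ∀ a ∈ I ^ n, a • y = 0}
  add_mem' := by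
    rintro y z ⟨n₁, h₁⟩ ⟨n₂, h₂⟩
    refine ⟨n₁ + n₂, fun a ha => ?_⟩
    rw [smul_add, h₁ a (Ideal.pow_le_pow_right (Nat.le_add_right _ _) ha),
      h₂ a (Ideal.pow_le_pow_right (Nat.le_add_left _ _) ha), add_zero]
  zero_mem' := ⟨0, fun a _ => smul_zero a⟩
  smul_mem' := by
    rintro c y ⟨n, h⟩
    exact ⟨n, fun a ha => by rw [smul_eq_mul, ← mul_smul_comm, h a ha, mul_zero]⟩

theorem mem_powTors {R : Type*} [CommRing R] (I : Ideal R) (C : Type*) [CommRing C] [Algebra R C]
    (y : C) : y ∈ powTors I C ↔ ∃ n : ℕ, ∀ a ∈ I ^ n, a • y = 0 := Iff.rfl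

theorem powTors_fg (R : Type u) [CommRing R] (I : Ideal R) (hR : AdicRing.IsBase R I)
    (A : Type u) [CommRing A] [Algebra R A] (hA : AdicRing.TopFiniteType R I A)
    (C : Type u) [CommRing C] [Algebra R C] [Algebra A C] [IsScalarTower R A C]
    [Algebra.FiniteType A C] : (powTors I C).FG := by
  obtain ⟨n, φ, hφ⟩ := hA
  obtain ⟨hc, ⟨hN, -⟩ | ⟨hdom, hpre, hdim, t, ht, rfl⟩⟩ := hR
  · haveI := hN
    haveI : IsNoetherianRing (RPow R I n) := Groth.Agent.S0543.result _ _
    haveI : IsNoetherianRing A := isNoetherianRing_of_surjective _ A φ.toRingHom hφ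
    haveI : IsNoetherianRing C := Algebra.FiniteType.isNoetherianRing A C
    exact IsNoetherian.noetherian _
  · haveI := hdom
    haveI : ValuationRing R := { toPreValuationRing := hpre }
    haveI := hdim
    haveI := hc
    refine ft_sat_fg R t ht n A φ hφ C _ ?_
    rintro y ⟨m, hm⟩
    refine ⟨m + 1, fun a ha => ?_⟩
    rw [Ideal.span_singleton_pow, Ideal.mem_span_singleton'] at ha
    obtain ⟨c, rfl⟩ := ha
    rw [pow_succ, ← mul_assoc, mul_smul]
    apply hm
    rw [Ideal.span_singleton_pow]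
    exact Ideal.mul_mem_left _ _ (Ideal.mem_span_singleton_self _)

theorem exists_pow_mul_eq_zero_of_fg {C : Type*} [CommRing C] (T : Ideal C) (hT : T.FG) (F : C)
    (h : ∀ y ∈ T, ∃ N : ℕ, F ^ N * y = 0) : ∃ N : ℕ, ∀ y ∈ T, F ^ N * y = 0 := by
  classical
  obtain ⟨S, hS⟩ := hT
  have h1 : ∀ s : C, ∃ N : ℕ, s ∈ S → F ^ N * s = 0 := by
    intro s
    by_cases hs : s ∈ S
    · obtain ⟨N, hN⟩ := h s (hS ▸ Ideal.subset_span hs)
      exact ⟨N, fun _ => hN⟩
    · exact ⟨0, fun h => absurd h hs⟩
  choose N hN using h1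
  refine ⟨S.sup N, fun y hy => ?_⟩
  rw [← hS] at hy
  induction hy using Submodule.span_induction with
  | mem s hs =>
    have hle : N s ≤ S.sup N := Finset.le_sup hs
    obtain ⟨e, he⟩ := Nat.exists_eq_add_of_le hle
    rw [he, pow_add, mul_comm (F ^ N s), mul_assoc, hN s hs, mul_zero]
  | zero => rw [mul_zero]
  | add y z _ _ hy hz => rw [mul_add, hy, hz, add_zero]
  | smul c y _ hy => rw [smul_eq_mul, mul_left_comm, hy, mul_zero]

section Chart

variable {A : Type u} [CommRing A] {r : ℕ} (f : Fin (r + 1) → A) (i : Fin (r + 1))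

theorem chart_rel (j : {j : Fin (r + 1) // j ≠ i}) :
    algebraMap A (AdicRing.chartAlg f i) (f i) * Ideal.Quotient.mk _ (X j) =
      algebraMap A (AdicRing.chartAlg f i) (f j.1) := by
  have h : (Ideal.Quotient.mk (Ideal.span (Set.range fun j : {j : Fin (r + 1) // j ≠ i} =>
      (C (f i) * X j - C (f j.1) : MvPolynomial {j : Fin (r + 1) // j ≠ i} A)))
      (C (f i) * X j - C (f j.1))) = 0 :=
    Ideal.Quotient.eq_zero_iff_mem.mpr (Ideal.subset_span ⟨j, rfl⟩)
  rw [map_sub, map_mul, sub_eq_zero] at h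
  exact h

theorem chart_span_le :
    (Ideal.span (Set.range f)).map (algebraMap A (AdicRing.chartAlg f i)) ≤
      Ideal.span {algebraMap A (AdicRing.chartAlg f i) (f i)} := by
  rw [Ideal.map_span, Ideal.span_le]
  rintro _ ⟨_, ⟨j, rfl⟩, rfl⟩
  by_cases hj : j = i
  · subst hj
    exact Ideal.mem_span_singleton_self _
  · rw [SetLike.mem_coe, ← chart_rel f i ⟨j, hj⟩]
    exact Ideal.mul_mem_right _ _ (Ideal.mem_span_singleton_self _)

/-- the map from the chart algebra to the localization `A[1/f_i]` -/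
noncomputable def chartToLoc : AdicRing.chartAlg f i →ₐ[A] Localization.Away (f i) :=
  Ideal.Quotient.liftₐ _ (aeval (fun j : {j : Fin (r + 1) // j ≠ i} =>
    algebraMap A (Localization.Away (f i)) (f j.1) * IsLocalization.Away.invSelf (f i))) (by
    have : Ideal.span (Set.range fun j : {j : Fin (r + 1) // j ≠ i} =>
        (C (f i) * X j - C (f j.1) : MvPolynomial {j : Fin (r + 1) // j ≠ i} A)) ≤
        RingHom.ker (aeval (fun j : {j : Fin (r + 1) // j ≠ i} =>
          algebraMap A (Localization.Away (f i)) (f j.1) * IsLocalization.Away.invSelf (f i)) :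
          MvPolynomial {j : Fin (r + 1) // j ≠ i} A →ₐ[A] Localization.Away (f i)) := by
      rw [Ideal.span_le]
      rintro _ ⟨j, rfl⟩
      rw [SetLike.mem_coe, RingHom.mem_ker, map_sub, map_mul, aeval_C, aeval_X, aeval_C,
        ← mul_assoc, mul_comm (algebraMap _ _ (f i)), mul_assoc,
        IsLocalization.Away.mul_invSelf, mul_one, sub_self]
    exact fun a ha => this ha)

theorem chart_exists_pow_mul (y : AdicRing.chartAlg f i) :
    ∃ (D : ℕ) (q : A), (algebraMap A (AdicRing.chartAlg f i) (f i)) ^ D * y =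
      algebraMap A (AdicRing.chartAlg f i) q := by
  obtain ⟨p, rfl⟩ := Ideal.Quotient.mk_surjective y
  induction p using MvPolynomial.induction_on with
  | C a => exact ⟨0, a, by rw [pow_zero, one_mul]; rfl⟩
  | add p₁ p₂ h₁ h₂ =>
    obtain ⟨D₁, q₁, h₁⟩ := h₁
    obtain ⟨D₂, q₂, h₂⟩ := h₂
    refine ⟨D₁ + D₂, f i ^ D₂ * q₁ + f i ^ D₁ * q₂, ?_⟩
    rw [map_add (Ideal.Quotient.mk _), mul_add, map_add, map_mul, map_mul, ← h₁, ← h₂, map_pow,
      map_pow]
    ring
  | mul_X p j h =>
    obtain ⟨D, q, h⟩ := h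
    refine ⟨D + 1, q * f j.1, ?_⟩
    rw [map_mul (Ideal.Quotient.mk _), map_mul (algebraMap A _), ← chart_rel f i j, ← h]
    ring

theorem chart_ker_toLoc (y : AdicRing.chartAlg f i) (hy : chartToLoc f i y = 0) :
    ∃ N : ℕ, (algebraMap A (AdicRing.chartAlg f i) (f i)) ^ N * y = 0 := by
  obtain ⟨D, q, hq⟩ := chart_exists_pow_mul f i y
  have h1 : algebraMap A (Localization.Away (f i)) q = 0 := by
    rw [← (chartToLoc f i).commutes q, ← hq, map_mul, hy, mul_zero]
  obtain ⟨⟨_, M, rfl⟩, hM⟩ :=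
    (IsLocalization.map_eq_zero_iff (Submonoid.powers (f i)) _ q).mp h1
  refine ⟨M + D, ?_⟩
  have hM' : f i ^ M * q = 0 := hM
  rw [pow_add, mul_assoc, hq, ← map_pow, ← map_mul, hM', map_zero]

theorem chart_tors_pow (R : Type u) [CommRing R] (I : Ideal R) (hI : I.FG) [Algebra R A]
    (htor : AdicRing.NoPowTorsion I A) (y : AdicRing.chartAlg f i)
    (hy : y ∈ powTors I (AdicRing.chartAlg f i)) :
    ∃ N : ℕ, (algebraMap A (AdicRing.chartAlg f i) (f i)) ^ N * y = 0 := by
  apply chart_ker_toLoc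
  obtain ⟨n, hn⟩ := hy
  haveI : Module.Flat A (Localization.Away (f i)) :=
    IsLocalization.flat _ (Submonoid.powers (f i))
  have h3 := noPowTorsion_of_flat R I hI A (Localization.Away (f i)) htor
  apply h3 _ n
  intro a ha
  rw [← algebraMap_smul A a (chartToLoc f i y), ← map_smul, algebraMap_smul, hn a ha, map_zero]

end Chart

/-- S11540 -/
theorem s11540 (R : Type u) [CommRing R] (I : Ideal R) (hR : AdicRing.IsBase R I)
    (A : Type u) [CommRing A] [Algebra R A] (hA : AdicRing.Admissible R I A)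
    (r : ℕ) (f : Fin (r + 1) → A) (k : ℕ)
    (hopen : (I ^ k).map (algebraMap R A) ≤ Ideal.span (Set.range f)) (i : Fin (r + 1))
    (x : AdicRing.chartCompl I f i) :
    (∃ n : ℕ, ∀ a ∈ I ^ n, a • x = 0) ↔
      ∃ n : ℕ, algebraMap A (AdicRing.chartCompl I f i) (f i) ^ n * x = 0 := by
  classical
  have hI := isBase_fg' R I hR
  have hAft : AdicRing.TopFiniteType R I A := by
    obtain ⟨⟨d, φ, hφ, -⟩, -⟩ := hA
    exact ⟨d, φ, hφ⟩
  haveI : Algebra.FiniteType A (AdicRing.chartAlg f i) :=
    Algebra.FiniteType.of_surjective (Ideal.Quotient.mkₐ A _) (Ideal.Quotient.mkₐ_surjective A _)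
  have hFhat : algebraMap A (AdicRing.chartCompl I f i) (f i) =
      algebraMap (AdicRing.chartAlg f i) (AdicRing.chartCompl I f i)
        (algebraMap A (AdicRing.chartAlg f i) (f i)) := rfl
  constructor
  · rintro ⟨n, hn⟩
    obtain ⟨N, hN⟩ := exists_pow_mul_eq_zero_of_fg (powTors I (AdicRing.chartAlg f i))
      (powTors_fg R I hR A hAft _) (algebraMap A _ (f i))
      (fun y hy => chart_tors_pow f i R I hI hA.2 y hy)
    refine ⟨N, ?_⟩
    haveI : Module.Flat (AdicRing.chartAlg f i) (AdicRing.chartCompl I f i) :=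
      s11539 R I hR A hAft (AdicRing.chartAlg f i)
    obtain ⟨S, hS⟩ : (I ^ n).FG := hI.pow
    obtain ⟨g, hg⟩ : ∃ g : AdicRing.chartAlg f i →ₗ[AdicRing.chartAlg f i]
        (S → AdicRing.chartAlg f i), g = LinearMap.pi (fun s : S =>
          LinearMap.lsmul _ _ (algebraMap R (AdicRing.chartAlg f i) s.1)) := ⟨_, rfl⟩
    have hgapp : ∀ (y : AdicRing.chartAlg f i) (s : S),
        g y s = algebraMap R (AdicRing.chartAlg f i) s.1 * y := by
      intro y s
      rw [hg, LinearMap.pi_apply, LinearMap.lsmul_apply, smul_eq_mul]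
    have hker : ∀ y ∈ LinearMap.ker g, y ∈ powTors I (AdicRing.chartAlg f i) := by
      intro y hy
      rw [LinearMap.mem_ker] at hy
      refine ⟨n, fun a ha => ?_⟩
      rw [← hS] at ha
      induction ha using Submodule.span_induction with
      | mem s hs =>
        have := congrFun hy ⟨s, hs⟩
        rw [hgapp] at this
        rw [Algebra.smul_def]
        exact this
      | zero => rw [zero_smul]
      | add y z _ _ hy hz => rw [add_smul, hy, hz, add_zero]
      | smul c y _ hy => rw [smul_eq_mul, mul_smul, hy, smul_zero]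
    have hex := Module.Flat.lTensor_exact (AdicRing.chartCompl I f i)
      (LinearMap.exact_subtype_ker_map g)
    have h1 : g.lTensor (AdicRing.chartCompl I f i)
        (x ⊗ₜ[AdicRing.chartAlg f i] (1 : AdicRing.chartAlg f i)) = 0 := by
      rw [LinearMap.lTensor_tmul]
      apply (TensorProduct.piScalarRight (AdicRing.chartAlg f i) (AdicRing.chartAlg f i)
        (AdicRing.chartCompl I f i) S).injective
      rw [map_zero, TensorProduct.piScalarRight_apply, TensorProduct.piScalarRightHom_tmul]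
      funext s
      rw [hgapp, mul_one, Pi.zero_apply, algebraMap_smul]
      apply hn
      rw [← hS]
      exact Ideal.subset_span s.2
    obtain ⟨w, hw⟩ := (hex _).mp h1
    have hkey : ∀ w : AdicRing.chartCompl I f i ⊗[AdicRing.chartAlg f i] (LinearMap.ker g),
        algebraMap A (AdicRing.chartCompl I f i) (f i) ^ N *
          TensorProduct.rid (AdicRing.chartAlg f i) (AdicRing.chartCompl I f i)
            ((LinearMap.ker g).subtype.lTensor (AdicRing.chartCompl I f i) w) = 0 := by
      intro w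
      induction w using TensorProduct.induction_on with
      | zero => rw [map_zero, map_zero, mul_zero]
      | tmul c y =>
        have hsm : (y : AdicRing.chartAlg f i) • c =
            algebraMap (AdicRing.chartAlg f i) (AdicRing.chartCompl I f i) y * c :=
          Algebra.smul_def (y : AdicRing.chartAlg f i) c
        rw [LinearMap.lTensor_tmul, TensorProduct.rid_tmul, Submodule.subtype_apply,
          hsm, hFhat, ← map_pow, ← mul_assoc, ← map_mul, hN _ (hker _ y.2),
          map_zero, zero_mul]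
      | add w₁ w₂ h₁ h₂ => rw [map_add, map_add, mul_add, h₁, h₂, add_zero]
    have h2 := hkey w
    rwa [hw, TensorProduct.rid_tmul, one_smul] at h2
  · rintro ⟨n, hn⟩
    refine ⟨k * n, fun a ha => ?_⟩
    have h1 : (I ^ (k * n)).map (algebraMap R (AdicRing.chartAlg f i)) ≤
        Ideal.span {algebraMap A (AdicRing.chartAlg f i) (f i) ^ n} := by
      rw [pow_mul, Ideal.map_pow, ← Ideal.span_singleton_pow]
      apply Ideal.pow_right_mono
      calc (I ^ k).map (algebraMap R (AdicRing.chartAlg f i))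
          = ((I ^ k).map (algebraMap R A)).map (algebraMap A (AdicRing.chartAlg f i)) := by
            rw [Ideal.map_map, ← IsScalarTower.algebraMap_eq]
        _ ≤ (Ideal.span (Set.range f)).map (algebraMap A (AdicRing.chartAlg f i)) :=
            Ideal.map_mono hopen
        _ ≤ Ideal.span {algebraMap A (AdicRing.chartAlg f i) (f i)} := chart_span_le f i
    obtain ⟨c, hc⟩ := Ideal.mem_span_singleton'.mp (h1 (Ideal.mem_map_of_mem _ ha))
    have h2 : a • x = algebraMap (AdicRing.chartAlg f i) (AdicRing.chartCompl I f i)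
        (algebraMap R (AdicRing.chartAlg f i) a) * x := by
      rw [Algebra.smul_def]
      rfl
    rw [h2, ← hc, map_mul, map_pow, ← hFhat, mul_assoc, hn, mul_zero]

end Groth.Agent.H8.RGV
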