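import Groth.Agent.Lib.Helper8.RGV.CLocFlat
import Groth.Agent.Lib.Helper8.RGV.Adjoin
import Mathlib.RingTheory.AdicCompletion.AsTensorProduct

/-!
# helper8: completions of finitely generated algebras over algebras topologically of finite type
(S11537)
-/

set_option autoImplicit false
universe u

open AdicRing TensorProduct

namespace Groth.Agent.H8.RGV

section Compl

variable (R : Type u) [CommRing R] (I : Ideal R) (B : Type u) [CommRing B] [Algebra R B]

local notation "B̂" => AdicCompletion (I.map (algebraMap R B)) B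

instance compl_tower : IsScalarTower R B (AdicCompletion (I.map (algebraMap R B)) B) :=
  IsScalarTower.of_algebraMap_eq (fun _ => rfl)

theorem compl_pow_map (k : ℕ) :
    ((I.map (algebraMap R B)) ^ k).map (algebraMap B B̂) = (I ^ k).map (algebraMap R B̂) := by
  rw [← Ideal.map_pow, Ideal.map_map, ← IsScalarTower.algebraMap_eq]

theorem compl_complete (hI : I.FG) : IsAdicComplete (I.map (algebraMap R B̂)) B̂ := by
  have h := CT.isAdicComplete_map (I.map (algebraMap R B)) (hI.map _)
  rwa [Ideal.map_map, ← IsScalarTower.algebraMap_eq] at h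

theorem compl_exists_sub_mem (hI : I.FG) (k : ℕ) (b : B̂) :
    ∃ x : B, b - algebraMap B B̂ x ∈ (I ^ k).map (algebraMap R B̂) := by
  obtain ⟨x, hx⟩ := CT.exists_sub_mem (I.map (algebraMap R B)) (hI.map _) b k
  exact ⟨x, by rw [← compl_pow_map]; exact hx⟩

theorem compl_mem_iff (hI : I.FG) (k : ℕ) (x : B) :
    algebraMap B B̂ x ∈ (I ^ k).map (algebraMap R B̂) ↔ x ∈ (I ^ k).map (algebraMap R B) := by
  constructor
  · intro h
    rw [← compl_pow_map, ← CT.ker_evalₐ _ (hI.map _) k, RingHom.mem_ker] at h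
    have h2 : AdicCompletion.evalₐ (I.map (algebraMap R B)) k (algebraMap B B̂ x) =
        Ideal.Quotient.mk _ x := (AdicCompletion.evalₐ _ k).commutes x
    have h3 : Ideal.Quotient.mk ((I.map (algebraMap R B)) ^ k) x = 0 := by
      rw [← h2]; exact h
    rw [Ideal.Quotient.eq_zero_iff_mem, ← Ideal.map_pow] at h3
    exact h3
  · intro h
    have := Ideal.mem_map_of_mem (algebraMap B B̂) h
    rwa [Ideal.map_map, ← IsScalarTower.algebraMap_eq] at this

theorem compl_trunc_finiteType (hI : I.FG) (k : ℕ)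
    (h : Algebra.FiniteType R (B ⧸ (I ^ k).map (algebraMap R B))) :
    Algebra.FiniteType R (B̂ ⧸ (I ^ k).map (algebraMap R B̂)) := by
  have hle : (I ^ k).map (algebraMap R B) ≤
      Ideal.comap (IsScalarTower.toAlgHom R B B̂) ((I ^ k).map (algebraMap R B̂)) := by
    intro x hx
    have := Ideal.mem_map_of_mem (algebraMap B B̂) hx
    rw [Ideal.map_map, ← IsScalarTower.algebraMap_eq] at this
    exact this
  refine Algebra.FiniteType.of_surjective
    (Ideal.quotientMapₐ _ (IsScalarTower.toAlgHom R B B̂) hle) ?_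
  intro y
  obtain ⟨b, rfl⟩ := Ideal.Quotient.mk_surjective y
  obtain ⟨x, hx⟩ := compl_exists_sub_mem R I B hI k b
  refine ⟨Ideal.Quotient.mk _ x, ?_⟩
  show Ideal.Quotient.mk _ (algebraMap B B̂ x) = Ideal.Quotient.mk _ b
  rw [Ideal.Quotient.eq]
  have := neg_mem hx
  rwa [neg_sub] at this

theorem compl_topFiniteType (hI : I.FG)
    (h : Algebra.FiniteType R (B ⧸ (I ^ 1).map (algebraMap R B))) :
    AdicRing.TopFiniteType R I B̂ := by
  haveI := compl_complete R I B hI
  exact topFiniteType_of_trunc R I hI _ (compl_trunc_finiteType R I B hI 1 h)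

/-- elements of `𝔞 B̂` multiply `B̂ ⊗ M` into `𝔞 (B̂ ⊗ M)` -/
theorem smul_mem_of_mem_map {B' : Type*} [CommRing B'] (C' : Type*) [CommRing C'] [Algebra B' C']
    (N : Type*) [AddCommGroup N] [Module B' N] [Module C' N] [IsScalarTower B' C' N]
    (𝔞 : Ideal B') (c : C') (hc : c ∈ 𝔞.map (algebraMap B' C')) (y : N) :
    c • y ∈ 𝔞 • (⊤ : Submodule B' N) := by
  revert y
  refine Submodule.span_induction (p := fun c _ => ∀ y : N, c • y ∈ 𝔞 • (⊤ : Submodule B' N))
    ?_ ?_ ?_ ?_ hc
  · rintro _ ⟨a, ha, rfl⟩ y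
    rw [algebraMap_smul]
    exact Submodule.smul_mem_smul ha Submodule.mem_top
  · intro y
    rw [zero_smul]
    exact zero_mem _
  · intro c₁ c₂ _ _ h₁ h₂ y
    rw [add_smul]
    exact add_mem (h₁ y) (h₂ y)
  · intro e c' _ h y
    rw [smul_eq_mul, mul_comm, mul_smul]
    exact h (e • y)

end Compl

/-- S11537 -/
theorem s11537 (R : Type u) [CommRing R] (I : Ideal R) (hR : AdicRing.IsBase R I)
    (A : Type u) [CommRing A] [Algebra R A] (hA : AdicRing.TopFiniteType R I A)
    (B : Type u) [CommRing B] [Algebra R B] [Algebra A B] [IsScalarTower R A B]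
    [Algebra.FiniteType A B]
    (M : Type u) [AddCommGroup M] [Module B M] [Module.Finite B M] :
    Function.Bijective
      (AdicCompletion.ofTensorProduct (I.map (algebraMap R B)) M) := by
  have hI := isBase_fg' R I hR
  obtain ⟨d, φ, hφ⟩ := hA
  have hB1 := finiteType_trunc_of_finite R I hI A d φ hφ B 1
  have hBh := compl_topFiniteType R I B hI hB1
  refine ⟨?_, AdicCompletion.ofTensorProduct_surjective_of_finite _ M⟩
  rw [injective_iff_map_eq_zero]
  intro z hz
  have hcomp : IsAdicComplete I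
      (AdicCompletion (I.map (algebraMap R B)) B ⊗[B] M) :=
    s11529 R I hR _ hBh (AdicCompletion (I.map (algebraMap R B)) B ⊗[B] M)
  refine IsHausdorff.haus hcomp.toIsHausdorff z (fun n => ?_)
  rw [SModEq.zero]
  suffices key : z ∈ (I.map (algebraMap R B)) ^ n •
      (⊤ : Submodule B (AdicCompletion (I.map (algebraMap R B)) B ⊗[B] M)) by
    have := (mem_pow_smul_restrictScalars (A := B) I n
      (⊤ : Submodule B (AdicCompletion (I.map (algebraMap R B)) B ⊗[B] M)) z).mpr key
    rwa [Submodule.restrictScalars_top] at this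
  -- approximation
  have happrox : ∀ z : AdicCompletion (I.map (algebraMap R B)) B ⊗[B] M, ∃ m : M,
      z - (1 : AdicCompletion (I.map (algebraMap R B)) B) ⊗ₜ[B] m ∈
        (I.map (algebraMap R B)) ^ n •
          (⊤ : Submodule B (AdicCompletion (I.map (algebraMap R B)) B ⊗[B] M)) := by
    intro z
    induction z using TensorProduct.induction_on with
    | zero => exact ⟨0, by rw [TensorProduct.tmul_zero, sub_zero]; exact zero_mem _⟩
    | tmul b m =>
      obtain ⟨x, hx⟩ := CT.exists_sub_mem (I.map (algebraMap R B)) (hI.map _) b n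
      refine ⟨x • m, ?_⟩
      have h1 : b ⊗ₜ[B] m - (1 : AdicCompletion (I.map (algebraMap R B)) B) ⊗ₜ[B] (x • m) =
          (b - algebraMap B _ x) • ((1 : AdicCompletion (I.map (algebraMap R B)) B) ⊗ₜ[B] m) := by
        rw [TensorProduct.smul_tmul', smul_eq_mul, mul_one, TensorProduct.sub_tmul,
          TensorProduct.tmul_smul, TensorProduct.smul_tmul', Algebra.smul_def, mul_one]
      rw [h1]
      exact smul_mem_of_mem_map _ _ _ _ hx _
    | add z₁ z₂ h₁ h₂ =>
      obtain ⟨m₁, h₁⟩ := h₁
      obtain ⟨m₂, h₂⟩ := h₂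
      refine ⟨m₁ + m₂, ?_⟩
      rw [TensorProduct.tmul_add]
      have : z₁ + z₂ - ((1 : AdicCompletion (I.map (algebraMap R B)) B) ⊗ₜ[B] m₁ +
          (1 : AdicCompletion (I.map (algebraMap R B)) B) ⊗ₜ[B] m₂) =
          (z₁ - (1 : AdicCompletion (I.map (algebraMap R B)) B) ⊗ₜ[B] m₁) +
          (z₂ - (1 : AdicCompletion (I.map (algebraMap R B)) B) ⊗ₜ[B] m₂) := by abel
      rw [this]
      exact add_mem h₁ h₂
  obtain ⟨L, hL⟩ : ∃ L : AdicCompletion (I.map (algebraMap R B)) B ⊗[B] M →ₗ[B]
      M ⧸ ((I.map (algebraMap R B)) ^ n • ⊤ : Submodule B M),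
      L = (AdicCompletion.eval (I.map (algebraMap R B)) M n) ∘ₗ
        ((AdicCompletion.ofTensorProduct (I.map (algebraMap R B)) M).restrictScalars B) :=
    ⟨_, rfl⟩
  have hLz : L z = 0 := by
    rw [hL, LinearMap.comp_apply, LinearMap.restrictScalars_apply, hz, map_zero]
  have hL1 : ∀ m : M, L ((1 : AdicCompletion (I.map (algebraMap R B)) B) ⊗ₜ[B] m) =
      Submodule.Quotient.mk m := by
    intro m
    rw [hL, LinearMap.comp_apply, LinearMap.restrictScalars_apply,
      AdicCompletion.ofTensorProduct_tmul, one_smul]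
    rfl
  have hLw : ∀ w ∈ (I.map (algebraMap R B)) ^ n •
      (⊤ : Submodule B (AdicCompletion (I.map (algebraMap R B)) B ⊗[B] M)), L w = 0 := by
    intro w hw
    refine Submodule.smul_induction_on hw ?_ ?_
    · intro a ha y _
      rw [map_smul]
      obtain ⟨y', hy'⟩ := Submodule.Quotient.mk_surjective _ (L y)
      rw [← hy', ← Submodule.Quotient.mk_smul, Submodule.Quotient.mk_eq_zero]
      exact Submodule.smul_mem_smul ha Submodule.mem_top
    · intro x y hx hy
      rw [map_add, hx, hy, add_zero]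
  obtain ⟨m, hm⟩ := happrox z
  have h5 : z = (1 : AdicCompletion (I.map (algebraMap R B)) B) ⊗ₜ[B] m +
      (z - (1 : AdicCompletion (I.map (algebraMap R B)) B) ⊗ₜ[B] m) := by abel
  have h6 : (Submodule.Quotient.mk m : M ⧸ ((I.map (algebraMap R B)) ^ n • ⊤ : Submodule B M))
      = 0 := by
    have h7 := hLz
    rw [h5, map_add, hLw _ hm, add_zero, hL1] at h7
    exact h7
  rw [Submodule.Quotient.mk_eq_zero] at h6
  rw [h5]
  refine add_mem ?_ hm
  refine Submodule.smul_induction_on h6 ?_ ?_
  · intro a ha m' _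
    rw [TensorProduct.tmul_smul]
    exact Submodule.smul_mem_smul ha Submodule.mem_top
  · intro x y hx hy
    rw [TensorProduct.tmul_add]
    exact add_mem hx hy

end Groth.Agent.H8.RGV
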