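import Groth.Agent.Lib.Helper8.RGV.VMain
import Groth.Agent.S0543

/-!
# helper8: the basic finiteness statements for algebras topologically of finite type over a base
ring of class (N) or (V)
-/

set_option autoImplicit false
universe u

open MvPolynomial IsLocalRing AdicRing

namespace Groth.Agent.H8.RGV

theorem hJ_of (R : Type u) [CommRing R] (t : R) (n : ℕ) :
    (Ideal.span {t}).map (C : R →+* MvPolynomial (Fin n) R) = Ideal.span {C t} := by
  rw [Ideal.map_span, Set.image_singleton]

section Gen

variable (R : Type u) [CommRing R] (I : Ideal R) (n : ℕ) (A : Type u) [CommRing A] [Algebra R A]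
  (φ : RPow R I n →ₐ[R] A) (hφ : Function.Surjective φ)

include hφ in
theorem jac_gen (hI : I.FG) : I.map (algebraMap R A) ≤ Ideal.jacobson (⊥ : Ideal A) := by
  have hJfg : (I.map (C : R →+* MvPolynomial (Fin n) R)).FG := hI.map _
  rw [Ideal.map_le_iff_le_comap]
  intro r hr
  rw [Ideal.mem_comap, Ideal.mem_jacobson_bot]
  intro y
  obtain ⟨p, rfl⟩ := hφ y
  have hjacP : algebraMap (MvPolynomial (Fin n) R) (RPow R I n) (C r) ∈
      Ideal.jacobson (⊥ : Ideal (RPow R I n)) := by
    apply CT.map_le_jacobson _ hJfg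
    exact Ideal.mem_map_of_mem _ (Ideal.mem_map_of_mem _ hr)
  have h1 := (Ideal.mem_jacobson_bot.mp hjacP p).map φ
  have h2 : φ (algebraMap (MvPolynomial (Fin n) R) (RPow R I n) (C r)) = algebraMap R A r := by
    have : algebraMap (MvPolynomial (Fin n) R) (RPow R I n) (C r) =
        algebraMap R (RPow R I n) r := rfl
    rw [this, φ.commutes]
  rwa [map_add, map_mul, map_one, h2] at h1

include hφ in
theorem precomplete_gen (hI : I.FG) (M : Type u) [AddCommGroup M] [Module A M] [Module R M]
    [IsScalarTower R A M] [Module.Finite A M] : IsPrecomplete I M := by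
  have hJfg : (I.map (C : R →+* MvPolynomial (Fin n) R)).FG := hI.map _
  obtain ⟨k, m, hm⟩ := Module.Finite.exists_fin (R := A) (M := M)
  have hπsurj : Function.Surjective (Fintype.linearCombination A m) := by
    rw [← LinearMap.range_eq_top, Fintype.range_linearCombination, hm]
  obtain ⟨f, hf⟩ : ∃ f : (Fin k → RPow R I n) →ₗ[R] M,
      f = ((Fintype.linearCombination A m).restrictScalars R).comp
        (φ.toLinearMap.compLeft (Fin k)) := ⟨_, rfl⟩
  have hfsurj : Function.Surjective f := by
    rw [hf]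
    refine hπsurj.comp ?_
    exact hφ.comp_left
  have h0 := CT.isAdicComplete_map _ hJfg
  have h4 : (I.map (C : R →+* MvPolynomial (Fin n) R)).map
      (algebraMap (MvPolynomial (Fin n) R) (RPow R I n)) = I.map (algebraMap R (RPow R I n)) := by
    rw [Ideal.map_map]
    rfl
  rw [h4] at h0
  haveI := h0
  haveI h3 : IsAdicComplete (I.map (algebraMap R (RPow R I n))) (Fin k → RPow R I n) :=
    RigPt.isAdicComplete_of_basis (Pi.basisFun (RPow R I n) (Fin k)) _
  haveI : IsAdicComplete I (Fin k → RPow R I n) :=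
    (IsAdicComplete.map_algebraMap_iff _ _).mp h3
  exact isPrecomplete_of_surjective I f hfsurj

end Gen

theorem mem_pow_smul_restrictScalars {R A M : Type*} [CommRing R] [CommRing A] [Algebra R A]
    [AddCommGroup M] [Module R M] [Module A M] [IsScalarTower R A M] (I : Ideal R) (j : ℕ)
    (N : Submodule A M) (x : M) :
    x ∈ I ^ j • N.restrictScalars R ↔ x ∈ (I.map (algebraMap R A)) ^ j • N := by
  rw [← Ideal.map_pow, ← Ideal.smul_restrictScalars]
  rfl

/-- S11524 -/
theorem s11524 (R : Type u) [CommRing R] (I : Ideal R) (hR : AdicRing.IsBase R I)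
    (A : Type u) [CommRing A] [Algebra R A] (hA : AdicRing.TopFiniteType R I A)
    (M : Type u) [AddCommGroup M] [Module A M] [Module R M] [IsScalarTower R A M]
    [Module.Finite A M] [Module.Flat R M] :
    Module.FinitePresentation A M := by
  obtain ⟨n, φ, hφ⟩ := hA
  obtain ⟨hc, ⟨hN, -⟩ | ⟨hdom, hpre, hdim, t, ht, rfl⟩⟩ := hR
  · haveI := hN
    haveI : IsNoetherianRing (RPow R I n) := Groth.Agent.S0543.result _ _
    haveI : IsNoetherianRing A := isNoetherianRing_of_surjective _ A φ.toRingHom hφ
    exact Module.finitePresentation_of_finite A M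
  · haveI := hdom
    haveI : ValuationRing R := { toPreValuationRing := hpre }
    haveI := hdim
    haveI := hc
    refine fp_A R t ht n _ (hJ_of R t n) A φ hφ M ?_
    intro x hx
    rw [algebraMap_smul] at hx
    have htor : Submodule.torsion R M = ⊥ :=
      Module.Flat.flat_iff_torsion_eq_bot_of_isBezout.mp inferInstance
    have hmem : x ∈ Submodule.torsion R M := by
      rw [Submodule.mem_torsion_iff]
      exact ⟨⟨t, mem_nonZeroDivisors_of_ne_zero ht⟩, hx⟩
    rw [htor] at hmem
    exact hmem

/-- S11525 -/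
theorem s11525 (R : Type u) [CommRing R] (I : Ideal R) (hR : AdicRing.IsBase R I)
    (A : Type u) [CommRing A] [Algebra R A] (hA : AdicRing.TopFiniteType R I A)
    (hT : AdicRing.NoPowTorsion I A) :
    AdicRing.TopFinitePresentation R I A := by
  obtain ⟨n, φ, hφ⟩ := hA
  refine ⟨n, φ, hφ, ?_⟩
  obtain ⟨hc, ⟨hN, -⟩ | ⟨hdom, hpre, hdim, t, ht, rfl⟩⟩ := hR
  · haveI := hN
    haveI : IsNoetherianRing (RPow R I n) := Groth.Agent.S0543.result _ _
    exact IsNoetherian.noetherian _
  · haveI := hdom
    haveI : ValuationRing R := { toPreValuationRing := hpre }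
    haveI := hdim
    haveI := hc
    refine ker_fg R t ht n _ (hJ_of R t n) A φ hφ ?_
    intro x hx
    refine hT x 1 ?_
    intro a ha
    rw [pow_one, Ideal.mem_span_singleton'] at ha
    obtain ⟨c, rfl⟩ := ha
    rw [mul_smul, Algebra.smul_def t, hx, smul_zero]

/-- S11526 -/
theorem s11526 (R : Type u) [CommRing R] (I : Ideal R) (hR : AdicRing.IsBase R I)
    (A : Type u) [CommRing A] [Algebra R A] (hA : AdicRing.TopFinitePresentation R I A)
    (J : Ideal A) (hJ : J.FG) :
    Module.FinitePresentation A J := by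
  obtain ⟨n, φ, hφ, hker⟩ := hA
  obtain ⟨hc, ⟨hN, -⟩ | ⟨hdom, hpre, hdim, t, ht, rfl⟩⟩ := hR
  · haveI := hN
    haveI : IsNoetherianRing (RPow R I n) := Groth.Agent.S0543.result _ _
    haveI : IsNoetherianRing A := isNoetherianRing_of_surjective _ A φ.toRingHom hφ
    haveI : Module.Finite A J := Module.Finite.of_fg hJ
    exact Module.finitePresentation_of_finite A J
  · haveI := hdom
    haveI : ValuationRing R := { toPreValuationRing := hpre }
    haveI := hdim
    haveI := hc
    exact coherent R t ht n _ (hJ_of R t n) A φ hφ hker J hJ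

/-- S11527 -/
theorem s11527 (R : Type u) [CommRing R] (I : Ideal R) (hR : AdicRing.IsBase R I)
    (A : Type u) [CommRing A] [Algebra R A] (hA : AdicRing.TopFiniteType R I A)
    (M : Type u) [AddCommGroup M] [Module A M] [Module R M] [IsScalarTower R A M]
    [Module.Finite A M] (N : Submodule A M)
    (hsat : ∀ (x : M) (n : ℕ), (∀ a ∈ I ^ n, a • x ∈ N) → x ∈ N) :
    N.FG := by
  obtain ⟨n, φ, hφ⟩ := hA
  obtain ⟨hc, ⟨hN, -⟩ | ⟨hdom, hpre, hdim, t, ht, rfl⟩⟩ := hR
  · haveI := hN
    haveI : IsNoetherianRing (RPow R I n) := Groth.Agent.S0543.result _ _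
    haveI : IsNoetherianRing A := isNoetherianRing_of_surjective _ A φ.toRingHom hφ
    haveI : IsNoetherian A M := isNoetherian_of_isNoetherianRing_of_finite A M
    exact IsNoetherian.noetherian N
  · haveI := hdom
    haveI : ValuationRing R := { toPreValuationRing := hpre }
    haveI := hdim
    haveI := hc
    refine sat_fg_A R t ht n _ (hJ_of R t n) A φ hφ M N ?_
    intro x hx
    refine hsat x 1 ?_
    intro a ha
    rw [pow_one, Ideal.mem_span_singleton'] at ha
    obtain ⟨c, rfl⟩ := ha
    rw [mul_smul, ← algebraMap_smul A t x, ← algebraMap_smul A c]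
    exact N.smul_mem _ hx

/-- S11528 -/
theorem s11528 (R : Type u) [CommRing R] (I : Ideal R) (hR : AdicRing.IsBase R I)
    (A : Type u) [CommRing A] [Algebra R A] (hA : AdicRing.TopFiniteType R I A)
    (M : Type u) [AddCommGroup M] [Module A M] [Module R M] [IsScalarTower R A M]
    [Module.Finite A M] (N : Submodule A M) :
    ∃ n₀ : ℕ, ∀ m : ℕ,
      (I ^ (m + n₀) • (⊤ : Submodule R M)) ⊓ N.restrictScalars R ≤ I ^ m • N.restrictScalars R := by
  obtain ⟨n, φ, hφ⟩ := hA
  obtain ⟨hc, ⟨hN, -⟩ | ⟨hdom, hpre, hdim, t, ht, rfl⟩⟩ := hR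
  · haveI := hN
    haveI : IsNoetherianRing (RPow R I n) := Groth.Agent.S0543.result _ _
    haveI : IsNoetherianRing A := isNoetherianRing_of_surjective _ A φ.toRingHom hφ
    obtain ⟨k, hk⟩ := Ideal.exists_pow_inf_eq_pow_smul (I.map (algebraMap R A)) N
    refine ⟨k, fun m => ?_⟩
    rintro x ⟨hx1, hx2⟩
    have hx1' : x ∈ (I.map (algebraMap R A)) ^ (m + k) • (⊤ : Submodule A M) := by
      rw [← mem_pow_smul_restrictScalars, Submodule.restrictScalars_top]
      exact hx1
    have hx2' : x ∈ N := hx2
    have h3 : x ∈ (I.map (algebraMap R A)) ^ (m + k) • (⊤ : Submodule A M) ⊓ N := ⟨hx1', hx2'⟩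
    rw [hk (m + k) (Nat.le_add_left k m), Nat.add_sub_cancel] at h3
    rw [mem_pow_smul_restrictScalars]
    exact Submodule.smul_mono le_rfl inf_le_right h3
  · haveI := hdom
    haveI : ValuationRing R := { toPreValuationRing := hpre }
    haveI := hdim
    haveI := hc
    exact AR R t ht n _ (hJ_of R t n) A φ hφ M N

/-- S11529 -/
theorem s11529 (R : Type u) [CommRing R] (I : Ideal R) (hR : AdicRing.IsBase R I)
    (A : Type u) [CommRing A] [Algebra R A] (hA : AdicRing.TopFiniteType R I A)
    (M : Type u) [AddCommGroup M] [Module A M] [Module R M] [IsScalarTower R A M]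
    [Module.Finite A M] :
    IsAdicComplete I M := by
  obtain ⟨n, φ, hφ⟩ := hA
  obtain ⟨hc, ⟨hN, -⟩ | ⟨hdom, hpre, hdim, t, ht, rfl⟩⟩ := hR
  · haveI := hN
    haveI : IsNoetherianRing (RPow R I n) := Groth.Agent.S0543.result _ _
    haveI : IsNoetherianRing A := isNoetherianRing_of_surjective _ A φ.toRingHom hφ
    have hIfg : I.FG := IsNoetherian.noetherian I
    have hH : IsHausdorff I M := by
      have h1 : IsHausdorff (I.map (algebraMap R A)) M :=
        IsHausdorff.of_le_jacobson _ M (jac_gen R I n A φ hφ hIfg)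
      exact (IsHausdorff.map_algebraMap_iff).mp h1
    have hP : IsPrecomplete I M := precomplete_gen R I n A φ hφ hIfg M
    exact { toIsHausdorff := hH, toIsPrecomplete := hP }
  · haveI := hdom
    haveI : ValuationRing R := { toPreValuationRing := hpre }
    haveI := hdim
    haveI := hc
    exact complete R t ht n _ (hJ_of R t n) A φ hφ M

end Groth.Agent.H8.RGV
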