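import Groth.Agent.Lib.Helper8.RGV.Final
import Groth.Agent.Lib.Helper1.LocalCriterion

/-!
# helper8: the flatness criterion via truncations for algebras topologically of finite type
-/

set_option autoImplicit false
universe u

open MvPolynomial IsLocalRing AdicRing TensorProduct Function

namespace Groth.Agent.H8.RGV

/-- core of the local flatness criterion from Artin–Rees and separatedness hypotheses -/
theorem flat_of_AR_haus {A : Type*} [CommRing A] {B : Type*} [CommRing B] [Algebra A B]
    {M : Type*} [AddCommGroup M] [Module A M] [Module B M] [IsScalarTower A B M] (I : Ideal A)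
    (hAR : ∀ J : Ideal A, J.FG → ∃ k : ℕ, ∀ n : ℕ,
      Submodule.comap J.subtype (I ^ (n + k)) ≤ I ^ n • (⊤ : Submodule A J))
    (hHaus : ∀ J : Ideal A, J.FG → ∀ x : M ⊗[A] J,
      (∀ n : ℕ, x ∈ (I.map (algebraMap A B)) ^ n • (⊤ : Submodule B (M ⊗[A] J))) → x = 0)
    (H : ∀ (J : Ideal A) (m : ℕ) (x : M ⊗[A] J), (J.subtype.lTensor M) x = 0 →
      ((Submodule.comap J.subtype (I ^ m)).mkQ.lTensor M) x = 0) : Module.Flat A M := by
  rw [Module.Flat.iff_lTensor_injective]
  intro J hJ
  rw [injective_iff_map_eq_zero]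
  intro x hx
  apply hHaus J hJ
  intro n
  obtain ⟨k, hk⟩ := hAR J hJ
  have hARn := hk n
  have h0 := H J (n + k) x hx
  have hex := lTensor_exact M
    (LinearMap.exact_subtype_mkQ (Submodule.comap J.subtype (I ^ (n + k))))
    (Submodule.mkQ_surjective _)
  obtain ⟨y, rfl⟩ := (hex x).mp h0
  clear h0 hx
  induction y using TensorProduct.induction_on with
  | zero => simp
  | add y₁ y₂ h₁ h₂ => rw [map_add]; exact Submodule.add_mem _ h₁ h₂
  | tmul m j =>
    rw [LinearMap.lTensor_tmul]
    exact Groth.Agent.H1.tmul_mem_map_pow_smul_top I n J m _ (hARn j.2)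

theorem flat_quot_congr {A : Type*} [CommRing A] {M : Type*} [AddCommGroup M] [Module A M]
    (K K' : Ideal A) (h : K = K') (hf : Module.Flat (A ⧸ K) ((A ⧸ K) ⊗[A] M)) :
    Module.Flat (A ⧸ K') ((A ⧸ K') ⊗[A] M) := by
  subst h
  exact hf

section V

variable (R : Type u) [CommRing R] [IsDomain R] [ValuationRing R] [Ring.KrullDimLE 1 R]
  (t : R) (ht : t ≠ 0) [IsAdicComplete (Ideal.span {t}) R]
  (A : Type u) [CommRing A] [Algebra R A] (dA : ℕ)
  (φA : RPow R (Ideal.span {t}) dA →ₐ[R] A) (hφA : Function.Surjective φA)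
  (B : Type u) [CommRing B] [Algebra R B] [Algebra A B] [IsScalarTower R A B] (dB : ℕ)
  (φB : RPow R (Ideal.span {t}) dB →ₐ[R] B) (hφB : Function.Surjective φB)

include ht hφA hφB in
theorem flat_crit_V (M : Type u) [AddCommGroup M] [Module B M] [Module A M] [IsScalarTower A B M]
    [Module.Finite B M]
    (h : ∀ n : ℕ, Module.Flat (AdicRing.trunc A (Ideal.span {t}) n)
      ((AdicRing.trunc A (Ideal.span {t}) n) ⊗[A] M)) : Module.Flat A M := by
  obtain ⟨τ, hτ⟩ : ∃ τ : A, τ = algebraMap R A t := ⟨_, rfl⟩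
  have hpow : ∀ m : ℕ, ((Ideal.span {t}).map (algebraMap R A)) ^ m = Ideal.span {τ ^ m} := by
    intro m
    rw [Ideal.map_span, Set.image_singleton, Ideal.span_singleton_pow, hτ]
  have hmapB : ((Ideal.span {t}).map (algebraMap R A)).map (algebraMap A B) =
      Ideal.span {algebraMap R B t} := by
    rw [Ideal.map_map, ← IsScalarTower.algebraMap_eq, Ideal.map_span, Set.image_singleton]
  refine flat_of_AR_haus (B := B) ((Ideal.span {t}).map (algebraMap R A)) ?_ ?_ ?_
  · intro J _
    obtain ⟨n₀, hn₀⟩ := AR_A R t ht dA _ (hJ_of R t dA) A φA hφA A J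
    refine ⟨n₀, fun n j hj => ?_⟩
    rw [Submodule.mem_comap, hpow, Ideal.mem_span_singleton'] at hj
    obtain ⟨y, hy⟩ := hj
    obtain ⟨z, hz, hzeq⟩ := hn₀ n (j : A) j.2 ⟨y, by
      rw [← hτ, smul_eq_mul, mul_comm]; exact hy.symm⟩
    have hj' : j = τ ^ n • (⟨z, hz⟩ : J) := by
      apply Subtype.ext
      rw [Submodule.coe_smul, ← hτ] at *
      exact hzeq
    rw [hj', hpow]
    exact Submodule.smul_mem_smul (Ideal.mem_span_singleton_self _) Submodule.mem_top
  · intro J hJ x hx
    haveI : Module.Finite A J := Module.Finite.of_fg hJ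
    haveI : Module.Finite B (M ⊗[A] J) := Groth.Agent.H1.finite_tensor_of_finite J
    refine hausdorff R t ht dB _ (hJ_of R t dB) B φB hφB (M ⊗[A] J) x fun m => ?_
    have h1 := hx m
    rw [hmapB, Ideal.span_singleton_pow, Submodule.ideal_span_singleton_smul,
      Submodule.mem_smul_pointwise_iff_exists] at h1
    obtain ⟨y, -, hy⟩ := h1
    exact ⟨y, hy.symm⟩
  · intro J m x hx
    rcases Nat.eq_zero_or_pos m with rfl | hm
    · haveI : Subsingleton (A ⧸ ((Ideal.span {t}).map (algebraMap R A)) ^ 0) := by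
        rw [pow_zero, Ideal.one_eq_top]
        exact Ideal.Quotient.subsingleton_iff.mpr rfl
      haveI := Groth.Agent.H1.flat_of_subsingleton_ring
        (R := A ⧸ ((Ideal.span {t}).map (algebraMap R A)) ^ 0)
        ((A ⧸ ((Ideal.span {t}).map (algebraMap R A)) ^ 0) ⊗[A] M)
      exact Groth.Agent.H1.mkQ_lTensor_eq_zero_of_flat_quotient J _ x hx
    · obtain ⟨e, rfl⟩ := Nat.exists_eq_add_of_le' hm
      haveI : Module.Flat (A ⧸ ((Ideal.span {t}).map (algebraMap R A)) ^ (e + 1))
          ((A ⧸ ((Ideal.span {t}).map (algebraMap R A)) ^ (e + 1)) ⊗[A] M) :=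
        flat_quot_congr _ _ (Ideal.map_pow _ _ _) (h e)
      exact Groth.Agent.H1.mkQ_lTensor_eq_zero_of_flat_quotient J _ x hx

end V

/-- S11531 -/
theorem s11531 (R : Type u) [CommRing R] (I : Ideal R) (hR : AdicRing.IsBase R I)
    (A : Type u) [CommRing A] [Algebra R A] (hA : AdicRing.TopFiniteType R I A)
    (B : Type u) [CommRing B] [Algebra R B] [Algebra A B] [IsScalarTower R A B]
    (hB : AdicRing.TopFiniteType R I B)
    (M : Type u) [AddCommGroup M] [Module B M] [Module A M] [IsScalarTower A B M]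
    [Module.Finite B M] :
    Module.Flat A M ↔
      ∀ n : ℕ, Module.Flat (AdicRing.trunc A I n) ((AdicRing.trunc A I n) ⊗[A] M) := by
  constructor
  · intro hf n
    infer_instance
  · intro h
    obtain ⟨dA, φA, hφA⟩ := hA
    obtain ⟨dB, φB, hφB⟩ := hB
    obtain ⟨hc, ⟨hN, -⟩ | ⟨hdom, hpre, hdim, t, ht, rfl⟩⟩ := hR
    · haveI := hN
      haveI : IsNoetherianRing (RPow R I dA) := Groth.Agent.S0543.result _ _
      haveI : IsNoetherianRing A := isNoetherianRing_of_surjective _ A φA.toRingHom hφA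
      haveI : IsNoetherianRing (RPow R I dB) := Groth.Agent.S0543.result _ _
      haveI : IsNoetherianRing B := isNoetherianRing_of_surjective _ B φB.toRingHom hφB
      have hIfg : I.FG := IsNoetherian.noetherian I
      have hI : (I.map (algebraMap R A)).map (algebraMap A B) ≤ Ideal.jacobson ⊥ := by
        rw [Ideal.map_map, ← IsScalarTower.algebraMap_eq]
        exact jac_gen R I dB B φB hφB hIfg
      refine Groth.Agent.H1.flat_of_forall_flat_quotient_pow (B := B) (I.map (algebraMap R A)) hI ?_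
      intro n hn
      obtain ⟨e, rfl⟩ := Nat.exists_eq_add_of_le' hn
      exact flat_quot_congr _ _ (Ideal.map_pow _ _ _) (h e)
    · haveI := hdom
      haveI : ValuationRing R := { toPreValuationRing := hpre }
      haveI := hdim
      haveI := hc
      exact flat_crit_V R t ht A dA φA hφA B dB φB hφB M h

end Groth.Agent.H8.RGV
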