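import Mathlib

/-!
# helper8: a Gröbner-basis proof of "flat and of finite type implies finitely presented"
over `R/t` for a valuation ring `R` whose maximal ideal is the radical of `t`
-/

set_option autoImplicit false
universe u v

open MvPolynomial IsLocalRing

namespace Groth.Agent.H8.RGV

theorem exists_dvd_all' {V : Type*} [CommRing V] [IsDomain V] [ValuationRing V] {ι : Type*}
    (s : Finset ι) (hs : s.Nonempty) (v : ι → V) :
    ∃ i ∈ s, ∀ j ∈ s, v i ∣ v j := by
  induction hs using Finset.Nonempty.cons_induction with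
  | singleton a =>
    exact ⟨a, Finset.mem_singleton_self a, fun j hj => by rw [Finset.mem_singleton.mp hj]⟩
  | cons a s ha hs ih =>
    obtain ⟨i, his, hi⟩ := ih
    rcases ValuationRing.dvd_total (v a) (v i) with h | h
    · refine ⟨a, Finset.mem_cons_self a s, fun j hj => ?_⟩
      rcases Finset.mem_cons.mp hj with rfl | hj
      · exact dvd_rfl
      · exact h.trans (hi j hj)
    · refine ⟨i, Finset.mem_cons.mpr (Or.inr his), fun j hj => ?_⟩
      rcases Finset.mem_cons.mp hj with rfl | hj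
      · exact h
      · exact hi j hj

/-- existence of a finite "Gröbner staircase" for an ideal of a polynomial ring over a field -/
theorem gb_field {k : Type*} [Field k] {n : ℕ} (m : MonomialOrder (Fin n))
    (𝔟 : Ideal (MvPolynomial (Fin n) k)) :
    ∃ D' : Finset (Fin n →₀ ℕ), (∀ d ∈ D', ∃ b ∈ 𝔟, b ≠ 0 ∧ m.degree b = d) ∧
      ∀ f ∈ 𝔟, f ≠ 0 → ∃ d ∈ D', d ≤ m.degree f := by
  classical
  obtain ⟨Dset, hDset⟩ : ∃ Dset : Set (Fin n →₀ ℕ),
      Dset = {d | ∃ b ∈ 𝔟, b ≠ 0 ∧ m.degree b = d} := ⟨_, rfl⟩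
  have hfg : (Submodule.span (MvPolynomial (Fin n) k)
      ((fun s => monomial s (1 : k)) '' Dset)).FG := IsNoetherian.noetherian _
  obtain ⟨s', hs'sub, hs'eq⟩ := (Submodule.fg_span_iff_fg_span_finset_subset _).mp hfg
  have hdm : ∀ d : Fin n →₀ ℕ, m.degree (monomial d (1 : k)) = d := by
    intro d
    rw [MonomialOrder.degree_monomial, if_neg one_ne_zero]
  refine ⟨s'.image (m.degree), ?_, ?_⟩
  · intro d hd
    obtain ⟨p, hp, rfl⟩ := Finset.mem_image.mp hd
    obtain ⟨d', hd', rfl⟩ := hs'sub hp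
    rw [hdm]
    rw [hDset] at hd'
    exact hd'
  · intro f hf hf0
    have hmem : monomial (m.degree f) (1 : k) ∈
        Ideal.span ((fun s => monomial s (1 : k)) '' Dset) :=
      Ideal.subset_span ⟨m.degree f, by rw [hDset]; exact ⟨f, hf, hf0, rfl⟩, rfl⟩
    have himg : (↑s' : Set (MvPolynomial (Fin n) k)) =
        (fun s => monomial s (1 : k)) '' (↑(s'.image m.degree) : Set (Fin n →₀ ℕ)) := by
      ext p
      constructor
      · intro hp
        obtain ⟨d', hd', rfl⟩ := hs'sub hp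
        refine ⟨d', ?_, rfl⟩
        rw [Finset.mem_coe, Finset.mem_image]
        exact ⟨_, hp, hdm d'⟩
      · rintro ⟨d, hd, rfl⟩
        rw [Finset.mem_coe, Finset.mem_image] at hd
        obtain ⟨p, hp, rfl⟩ := hd
        obtain ⟨d', hd', rfl⟩ := hs'sub hp
        rw [hdm]
        exact hp
    have h3 : Ideal.span (↑s' : Set (MvPolynomial (Fin n) k)) =
        Ideal.span ((fun s => monomial s (1 : k)) '' Dset) := hs'eq.symm
    have hmem2 : monomial (m.degree f) (1 : k) ∈ Ideal.span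
        ((fun s => monomial s (1 : k)) '' (↑(s'.image m.degree) : Set (Fin n →₀ ℕ))) := by
      rw [← himg, h3]
      exact hmem
    rw [mem_ideal_span_monomial_image] at hmem2
    obtain ⟨d, hd, hle⟩ := hmem2 (m.degree f)
      (by rw [mem_support_iff, coeff_monomial, if_pos rfl]; exact one_ne_zero)
    exact ⟨d, hd, hle⟩

/-- Gröbner form of Raynaud–Gruson over `R/t`: an ideal `𝔞 ∋ t` of `R[ζ]` whose quotient is
"flat over `R/t`" is finitely generated. -/
theorem gb_gen (R : Type u) [CommRing R] [IsDomain R] [ValuationRing R] (t : R)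
    (hrad : ∀ c ∈ maximalIdeal R, ∃ K : ℕ, t ∣ c ^ K)
    (n : ℕ) (m : MonomialOrder (Fin n)) (𝔞 : Ideal (MvPolynomial (Fin n) R))
    (h1 : (C t : MvPolynomial (Fin n) R) ∈ 𝔞)
    (h2 : ∀ (a c' : R) (u : MvPolynomial (Fin n) R), a * c' = t → C a * u ∈ 𝔞 →
      ∃ h : MvPolynomial (Fin n) R, u - C c' * h ∈ 𝔞) :
    𝔞.FG := by
  classical
  obtain ⟨ρ, hρ⟩ : ∃ ρ : MvPolynomial (Fin n) R →+* MvPolynomial (Fin n) (ResidueField R),
      ρ = MvPolynomial.map (residue R) := ⟨_, rfl⟩
  have hρsurj : Function.Surjective ρ := by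
    rw [hρ]; exact MvPolynomial.map_surjective _ (residue_surjective)
  have hρcoeff : ∀ (f : MvPolynomial (Fin n) R) (ν : Fin n →₀ ℕ),
      coeff ν (ρ f) = residue R (coeff ν f) := by
    intro f ν; rw [hρ]; exact MvPolynomial.coeff_map _ _ _
  obtain ⟨D', hD1, hD2⟩ := gb_field m (𝔞.map ρ)
  have hlift : ∀ d : ↥D', ∃ g ∈ 𝔞, ρ g ≠ 0 ∧ m.degree (ρ g) = d.1 := by
    intro d
    obtain ⟨b, hb, hb0, hbd⟩ := hD1 d.1 d.2
    obtain ⟨g, hg, rfl⟩ := (Ideal.mem_map_iff_of_surjective ρ hρsurj).mp hb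
    exact ⟨g, hg, hb0, hbd⟩
  choose g hg𝔞 hgne hgd using hlift
  obtain ⟨g0, hg0def⟩ : ∃ g0 : ↥D' → MvPolynomial (Fin n) R, g0 = fun d =>
      ∑ μ ∈ (ρ (g d)).support, monomial μ (coeff μ (g d)) := ⟨_, rfl⟩
  have hcoeff0 : ∀ d ν, coeff ν (g0 d) =
      if ν ∈ (ρ (g d)).support then coeff ν (g d) else 0 := by
    intro d ν
    rw [hg0def]
    simp only [coeff_sum, coeff_monomial]
    rw [Finset.sum_ite_eq']
  have hsupp0 : ∀ d, (g0 d).support = (ρ (g d)).support := by
    intro d
    ext ν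
    rw [mem_support_iff, hcoeff0]
    by_cases hν : ν ∈ (ρ (g d)).support
    · rw [if_pos hν]
      refine ⟨fun _ => hν, fun _ h0 => ?_⟩
      rw [mem_support_iff, hρcoeff, h0, map_zero] at hν
      exact hν rfl
    · rw [if_neg hν]
      exact ⟨fun h => absurd rfl h, fun h => absurd h hν⟩
  have hdeg0 : ∀ d, m.degree (g0 d) = d.1 := by
    intro d
    rw [← hgd d]
    unfold MonomialOrder.degree
    rw [hsupp0]
  have hunit : ∀ d, IsUnit (m.leadingCoeff (g0 d)) := by
    intro d
    unfold MonomialOrder.leadingCoeff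
    rw [hdeg0 d, hcoeff0]
    have hmem : d.1 ∈ (ρ (g d)).support := by
      rw [← hgd d]; exact m.degree_mem_support (hgne d)
    rw [if_pos hmem]
    rw [← residue_ne_zero_iff_isUnit, ← hρcoeff]
    exact mem_support_iff.mp hmem
  have hg1 : ∀ d ν, coeff ν (g d - g0 d) ∈ maximalIdeal R := by
    intro d ν
    rw [coeff_sub, hcoeff0]
    split_ifs with hν
    · rw [sub_self]; exact zero_mem _
    · rw [sub_zero, ← residue_eq_zero_iff, ← hρcoeff]
      exact notMem_support_iff.mp hν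
  -- the nilpotent ideal of coefficients
  obtain ⟨𝔠, h𝔠def⟩ : ∃ 𝔠 : Ideal R,
      𝔠 = ⨆ d : ↥D', Ideal.span (↑(g d - g0 d).coeffs : Set R) := ⟨_, rfl⟩
  have h𝔠fg : 𝔠.FG := by
    rw [h𝔠def]
    exact Submodule.fg_iSup _ fun d => ⟨_, rfl⟩
  have h𝔠mem : ∀ d ν, coeff ν (g d - g0 d) ∈ 𝔠 := by
    intro d ν
    by_cases h0 : coeff ν (g d - g0 d) = 0
    · rw [h0]; exact zero_mem _
    · rw [h𝔠def]
      exact (le_iSup (fun d : ↥D' => Ideal.span (↑(g d - g0 d).coeffs : Set R)) d)
        (Ideal.subset_span (coeff_mem_coeffs ν h0))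
  have h𝔠rad : 𝔠 ≤ (Ideal.span {t}).radical := by
    rw [h𝔠def]
    refine iSup_le fun d => Ideal.span_le.mpr ?_
    intro c hc
    rw [Finset.mem_coe, mem_coeffs_iff] at hc
    obtain ⟨ν, -, rfl⟩ := hc
    obtain ⟨K, hK⟩ := hrad _ (hg1 d ν)
    exact ⟨K, Ideal.mem_span_singleton.mpr hK⟩
  obtain ⟨K, hK⟩ := Ideal.exists_pow_le_of_le_radical_of_fg h𝔠rad h𝔠fg
  have hg1mem : ∀ d, g d - g0 d ∈ 𝔠.map (C : R →+* MvPolynomial (Fin n) R) := by
    intro d
    rw [mem_map_C_iff]
    exact h𝔠mem d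
  -- the generating set
  obtain ⟨𝔞'', h𝔞''def⟩ : ∃ 𝔞'' : Ideal (MvPolynomial (Fin n) R),
      𝔞'' = Ideal.span (insert (C t) (Set.range g)) := ⟨_, rfl⟩
  have h𝔞''le : 𝔞'' ≤ 𝔞 := by
    rw [h𝔞''def, Ideal.span_le]
    rintro x (rfl | ⟨d, rfl⟩)
    · exact h1
    · exact hg𝔞 d
  have hgmem : ∀ d, g d ∈ 𝔞'' := by
    intro d
    rw [h𝔞''def]
    exact Ideal.subset_span (Set.mem_insert_of_mem _ ⟨d, rfl⟩)
  have hCt : (C t : MvPolynomial (Fin n) R) ∈ 𝔞'' := by
    rw [h𝔞''def]
    exact Ideal.subset_span (Set.mem_insert _ _)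
  -- standard monomials
  obtain ⟨W, hWdef⟩ : ∃ W : Submodule R (MvPolynomial (Fin n) R),
      ∀ w, w ∈ W ↔ ∀ c ∈ w.support, ∀ d ∈ D', ¬ d ≤ c := by
    refine ⟨{ carrier := {w | ∀ c ∈ w.support, ∀ d ∈ D', ¬ d ≤ c}
              add_mem' := ?_
              zero_mem' := ?_
              smul_mem' := ?_ }, fun w => Iff.rfl⟩
    · intro a b ha hb c hc d hd
      rcases Finset.mem_union.mp (MvPolynomial.support_add hc) with h | h
      · exact ha c h d hd
      · exact hb c h d hd
    · intro c hc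
      simp at hc
    · intro r a ha c hc d hd
      exact ha c (MvPolynomial.support_smul hc) d hd
  obtain ⟨U, hUdef⟩ : ∃ U : Submodule R (MvPolynomial (Fin n) R),
      U = 𝔞''.restrictScalars R ⊔ W := ⟨_, rfl⟩
  obtain ⟨B, hBdef⟩ : ∃ B : ℕ → Submodule R (MvPolynomial (Fin n) R),
      B = fun e => ((𝔠 ^ e).map (C : R →+* MvPolynomial (Fin n) R)).restrictScalars R :=
    ⟨_, rfl⟩
  have hBmem : ∀ e f, f ∈ B e ↔ f ∈ (𝔠 ^ e).map (C : R →+* MvPolynomial (Fin n) R) := by
    intro e f; rw [hBdef]; exact Iff.rfl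
  have claimA : ∀ e, ∀ c ∈ 𝔠 ^ e, ∀ p : MvPolynomial (Fin n) R, C c * p ∈ U ⊔ B (e + 1) := by
    intro e c hc p
    obtain ⟨h, r, hp, -, hr⟩ := m.div (b := g0) hunit p
    have hrW : r ∈ W := by
      rw [hWdef]
      intro c hc d hd
      have := hr c hc ⟨d, hd⟩
      rwa [hdeg0] at this
    have hS : Finsupp.linearCombination (MvPolynomial (Fin n) R) g0 h =
        Finsupp.linearCombination (MvPolynomial (Fin n) R) g h -
          Finsupp.linearCombination (MvPolynomial (Fin n) R) (fun d => g d - g0 d) h := by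
      simp only [Finsupp.linearCombination_apply, Finsupp.sum, smul_eq_mul]
      rw [← Finset.sum_sub_distrib]
      refine Finset.sum_congr rfl fun i _ => ?_
      ring
    have hx1 : Finsupp.linearCombination (MvPolynomial (Fin n) R) g h ∈ 𝔞'' := by
      simp only [Finsupp.linearCombination_apply, Finsupp.sum, smul_eq_mul]
      exact Ideal.sum_mem _ fun i _ => Ideal.mul_mem_left _ _ (hgmem i)
    have hx3 : Finsupp.linearCombination (MvPolynomial (Fin n) R) (fun d => g d - g0 d) h ∈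
        𝔠.map (C : R →+* MvPolynomial (Fin n) R) := by
      simp only [Finsupp.linearCombination_apply, Finsupp.sum, smul_eq_mul]
      exact Ideal.sum_mem _ fun i _ => Ideal.mul_mem_left _ _ (hg1mem i)
    have hx3' : C c * Finsupp.linearCombination (MvPolynomial (Fin n) R)
        (fun d => g d - g0 d) h ∈ B (e + 1) := by
      rw [hBmem, pow_succ, Ideal.map_mul]
      exact Ideal.mul_mem_mul (Ideal.mem_map_of_mem _ hc) hx3
    have hx2 : C c * r ∈ W := by
      rw [MvPolynomial.C_mul']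
      exact W.smul_mem c hrW
    have heq : C c * p = C c * Finsupp.linearCombination (MvPolynomial (Fin n) R) g h -
        C c * Finsupp.linearCombination (MvPolynomial (Fin n) R) (fun d => g d - g0 d) h +
        C c * r := by
      rw [hp, hS]; ring
    rw [heq]
    refine Submodule.add_mem _ (Submodule.sub_mem _ ?_ ?_) ?_
    · refine Submodule.mem_sup_left ?_
      rw [hUdef]
      exact Submodule.mem_sup_left (Ideal.mul_mem_left _ _ hx1)
    · exact Submodule.mem_sup_right hx3'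
    · refine Submodule.mem_sup_left ?_
      rw [hUdef]
      exact Submodule.mem_sup_right hx2
  have claimA' : ∀ e, B e ≤ U ⊔ B (e + 1) := by
    intro e f hf
    rw [hBmem, mem_map_C_iff] at hf
    rw [f.as_sum]
    refine Submodule.sum_mem _ fun ν _ => ?_
    have : monomial ν (coeff ν f) = C (coeff ν f) * monomial ν (1 : R) := by
      rw [C_mul_monomial, mul_one]
    rw [this]
    exact claimA e _ (hf ν) _
  have claim : ∀ e, (⊤ : Submodule R (MvPolynomial (Fin n) R)) ≤ U ⊔ B e := by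
    intro e
    induction e with
    | zero =>
      refine le_sup_of_le_right ?_
      intro f _
      rw [hBmem, pow_zero, Ideal.one_eq_top, Ideal.map_top]
      exact Submodule.mem_top
    | succ e ih =>
      exact ih.trans (sup_le le_sup_left (claimA' e))
  have hBK : B K ≤ U := by
    intro f hf
    rw [hBmem] at hf
    have h3 : (𝔠 ^ K).map (C : R →+* MvPolynomial (Fin n) R) ≤ 𝔞'' := by
      refine (Ideal.map_mono hK).trans ?_
      rw [Ideal.map_span, Set.image_singleton, Ideal.span_le, Set.singleton_subset_iff]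
      exact hCt
    rw [hUdef]
    exact Submodule.mem_sup_left (h3 hf)
  have hU : (⊤ : Submodule R (MvPolynomial (Fin n) R)) ≤ U :=
    (claim K).trans (sup_le le_rfl hBK)
  -- independence of the standard monomials
  have claimB : ∀ w ∈ W, w ∈ 𝔞 → w ∈ (Ideal.span {t}).map (C : R →+* MvPolynomial (Fin n) R) := by
    intro w hwW hw𝔞
    rw [mem_map_C_iff]
    by_contra hcon
    push Not at hcon
    obtain ⟨ν₀, hν₀⟩ := hcon
    have hne : w.support.Nonempty :=
      ⟨ν₀, mem_support_iff.mpr (fun h => hν₀ (h ▸ zero_mem _))⟩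
    obtain ⟨ν₁, hν₁, hdiv⟩ := exists_dvd_all' w.support hne (fun ν => coeff ν w)
    obtain ⟨a, ha⟩ : ∃ a, a = coeff ν₁ w := ⟨_, rfl⟩
    have ha0 : a ≠ 0 := by rw [ha]; exact mem_support_iff.mp hν₁
    have hall : ∀ ν, a ∣ coeff ν w := by
      intro ν
      by_cases hν : ν ∈ w.support
      · rw [ha]; exact hdiv ν hν
      · rw [notMem_support_iff.mp hν]; exact dvd_zero _
    have hta : ¬ t ∣ a := by
      intro h
      apply hν₀
      rw [Ideal.mem_span_singleton]
      exact h.trans (hall ν₀)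
    obtain ⟨c', hc'⟩ : a ∣ t := (ValuationRing.dvd_total a t).resolve_right hta
    have hc'm : c' ∈ maximalIdeal R := by
      rw [mem_maximalIdeal, mem_nonunits_iff]
      intro hu
      apply hta
      rw [hc']
      exact (IsUnit.mul_right_dvd hu).mpr dvd_rfl
    have hwmem : w ∈ Ideal.span {(C a : MvPolynomial (Fin n) R)} := by
      have : w ∈ (Ideal.span {a}).map (C : R →+* MvPolynomial (Fin n) R) := by
        rw [mem_map_C_iff]
        intro ν
        exact Ideal.mem_span_singleton.mpr (hall ν)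
      rwa [Ideal.map_span, Set.image_singleton] at this
    obtain ⟨u, hu⟩ := Ideal.mem_span_singleton'.mp hwmem
    have hcu : ∀ ν, coeff ν w = coeff ν u * a := by
      intro ν
      rw [← hu, mul_comm u, coeff_C_mul, mul_comm]
    have hu1 : coeff ν₁ u = 1 := by
      have h3 : coeff ν₁ u * a = 1 * a := by rw [← hcu, one_mul, ha]
      exact mul_right_cancel₀ ha0 h3
    obtain ⟨h, hh⟩ := h2 a c' u hc'.symm (by rw [mul_comm, hu]; exact hw𝔞)
    have hρu : ρ (u - C c' * h) = ρ u := by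
      rw [map_sub, map_mul, hρ, MvPolynomial.map_C, (residue_eq_zero_iff c').mpr hc'm, map_zero,
        zero_mul, sub_zero]
    have hρmem : ρ u ∈ 𝔞.map ρ := by
      rw [← hρu]; exact Ideal.mem_map_of_mem _ hh
    have hρne : ρ u ≠ 0 := by
      intro h0
      have h4 : coeff ν₁ (ρ u) = 1 := by rw [hρcoeff, hu1, map_one]
      rw [h0, coeff_zero] at h4
      exact zero_ne_one h4
    obtain ⟨d, hd, hdle⟩ := hD2 (ρ u) hρmem hρne
    have h5 : m.degree (ρ u) ∈ (ρ u).support := m.degree_mem_support hρne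
    have h6 : m.degree (ρ u) ∈ w.support := by
      rw [mem_support_iff, hρcoeff] at h5
      rw [mem_support_iff, hcu]
      refine mul_ne_zero ?_ ha0
      intro h0
      rw [h0, map_zero] at h5
      exact h5 rfl
    exact (hWdef w).mp hwW _ h6 d hd hdle
  -- conclusion
  have heq : 𝔞 = 𝔞'' := by
    apply le_antisymm _ h𝔞''le
    intro f hf
    have hfU : f ∈ U := hU Submodule.mem_top
    rw [hUdef] at hfU
    obtain ⟨x, hx, w, hw, rfl⟩ := Submodule.mem_sup.mp hfU
    have hx' : x ∈ 𝔞'' := hx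
    have hw𝔞 : w ∈ 𝔞 := by
      have : w = (x + w) - x := by ring
      rw [this]
      exact 𝔞.sub_mem hf (h𝔞''le hx')
    have h7 := claimB w hw hw𝔞
    rw [Ideal.map_span, Set.image_singleton] at h7
    have h8 : w ∈ 𝔞'' :=
      (Ideal.span_le.mpr (Set.singleton_subset_iff.mpr hCt)) h7
    exact 𝔞''.add_mem hx' h8
  rw [heq, h𝔞''def]
  exact Submodule.fg_span ((Set.finite_range g).insert _)

end Groth.Agent.H8.RGV
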