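import Groth.Agent.Lib.Helper8.RGV.Compl
import Mathlib.RingTheory.MvPolynomial.Homogeneous
import Mathlib.RingTheory.GradedAlgebra.Homogeneous.Ideal
import Mathlib.RingTheory.TensorProduct.Quotient

/-!
# helper8: Raynaud–Gruson for finitely generated algebras over algebras topologically of finite
type (class (V)): saturated ideals are finitely generated, Artin–Rees.

Method: homogenize; graded pieces are finite over the complete ring `A`, so Nakayama applies
degree by degree; finite generation modulo `t` comes from the Gröbner lemma `gb_gen`.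
-/

set_option autoImplicit false
universe u

open MvPolynomial IsLocalRing AdicRing TensorProduct

namespace Groth.Agent.H8.RGV

attribute [local instance] MvPolynomial.gradedAlgebra in
/-- an ideal generated by homogeneous polynomials is stable under homogeneous components -/
theorem homogeneousComponent_mem_span {σ : Type*} {A : Type*} [CommRing A]
    (T : Set (MvPolynomial σ A)) (hT : ∀ x ∈ T, ∃ e, x.IsHomogeneous e)
    (x : MvPolynomial σ A) (hx : x ∈ Ideal.span T) (e : ℕ) :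
    homogeneousComponent e x ∈ Ideal.span T := by
  have h : (Ideal.span T).IsHomogeneous (homogeneousSubmodule σ A) :=
    Ideal.homogeneous_span _ T (fun y hy => by
      obtain ⟨e, he⟩ := hT y hy
      exact ⟨e, he⟩)
  exact homogeneousComponent_mem_of_mem h hx e

section V

variable (R : Type u) [CommRing R] [IsDomain R] [ValuationRing R] [Ring.KrullDimLE 1 R]
  (t : R) (ht : t ≠ 0) [IsAdicComplete (Ideal.span {t}) R] (d : ℕ)
  (A : Type u) [CommRing A] [Algebra R A]
  (φ : RPow R (Ideal.span {t}) d →ₐ[R] A) (hφ : Function.Surjective φ)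

include ht hφ in
/-- graded Raynaud–Gruson: a homogeneous `t`-saturated ideal of `A[ζ]` is finitely generated -/
theorem graded_sat_fg (k : ℕ) (𝔅 : Ideal (MvPolynomial (Fin k) A))
    (hhom : ∀ x ∈ 𝔅, ∀ e, homogeneousComponent e x ∈ 𝔅)
    (hsat : ∀ x : MvPolynomial (Fin k) A, t • x ∈ 𝔅 → x ∈ 𝔅) : 𝔅.FG := by
  classical
  have hI : (Ideal.span {t}).FG := ⟨{t}, by simp⟩
  obtain ⟨K, hK⟩ : ∃ K : Ideal (MvPolynomial (Fin k) A),
      K = ((Ideal.span {t}) ^ 1).map (algebraMap R (MvPolynomial (Fin k) A)) := ⟨_, rfl⟩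
  have hKmem : ∀ x, x ∈ K ↔ ∃ s, x = t • s := by
    intro x
    rw [hK, pow_one, Ideal.map_span, Set.image_singleton, Ideal.mem_span_singleton']
    constructor
    · rintro ⟨s, rfl⟩
      exact ⟨s, by rw [Algebra.smul_def, mul_comm]⟩
    · rintro ⟨s, rfl⟩
      exact ⟨s, by rw [Algebra.smul_def, mul_comm]⟩
  have hsat' : ∀ a c' : R, a * c' = t → ∀ x : MvPolynomial (Fin k) A, a • x ∈ 𝔅 → x ∈ 𝔅 := by
    intro a c' h x hx
    apply hsat
    rw [← h, mul_comm, mul_smul, Algebra.smul_def]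
    exact 𝔅.mul_mem_left _ hx
  haveI hft : Algebra.FiniteType R (MvPolynomial (Fin k) A ⧸ K) := by
    rw [hK]
    exact finiteType_trunc_of_finite R _ hI A d φ hφ (MvPolynomial (Fin k) A) 1
  obtain ⟨N, Ψ, hΨ⟩ := Algebra.FiniteType.iff_quotient_mvPolynomial''.mp hft
  obtain ⟨q, hq⟩ : ∃ q : MvPolynomial (Fin k) A →ₐ[R] MvPolynomial (Fin k) A ⧸ K,
      q = Ideal.Quotient.mkₐ R K := ⟨_, rfl⟩
  have hqsurj : Function.Surjective q := by
    rw [hq]; exact Ideal.Quotient.mkₐ_surjective R K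
  have hqker : ∀ x, q x = 0 ↔ x ∈ K := by
    intro x
    rw [hq]
    exact Ideal.Quotient.eq_zero_iff_mem
  have hqt : ∀ s, q (t • s) = 0 := fun s => (hqker _).mpr ((hKmem _).mpr ⟨s, rfl⟩)
  obtain ⟨𝔠, h𝔠⟩ : ∃ 𝔠 : Ideal (MvPolynomial (Fin N) R),
      𝔠 = Ideal.comap Ψ (Ideal.map q 𝔅) := ⟨_, rfl⟩
  have h𝔠mem : ∀ u, u ∈ 𝔠 ↔ ∃ b ∈ 𝔅, q b = Ψ u := by
    intro u
    rw [h𝔠, Ideal.mem_comap, Ideal.mem_map_iff_of_surjective q hqsurj]
  have h𝔠fg : 𝔠.FG := by
    refine gb_gen R t (fun c hc => exists_dvd_pow R t ht c hc) N MonomialOrder.lex 𝔠 ?_ ?_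
    · rw [h𝔠mem]
      refine ⟨0, 𝔅.zero_mem, ?_⟩
      have h1 : (C t : MvPolynomial (Fin N) R) = t • 1 := by rw [smul_eq_C_mul, mul_one]
      have h2 : Ψ (t • (1 : MvPolynomial (Fin N) R)) = q (t • 1) := by
        rw [map_smul, map_smul, map_one, map_one]
      rw [map_zero, h1, h2, hqt]
    · intro a c' u hac hu
      rw [h𝔠mem] at hu
      obtain ⟨b, hb, hbu⟩ := hu
      obtain ⟨s, hs⟩ := hqsurj (Ψ u)
      have h1 : q (b - a • s) = 0 := by
        rw [map_sub, hbu, ← smul_eq_C_mul, map_smul, map_smul, hs, sub_self]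
      obtain ⟨s', hs'⟩ := (hKmem _).mp ((hqker _).mp h1)
      have h2 : a • (s + c' • s') = b := by
        rw [smul_add, smul_smul, hac, ← hs']
        abel
      have h3 : s + c' • s' ∈ 𝔅 := hsat' a c' hac _ (h2 ▸ hb)
      obtain ⟨h, hh⟩ := hΨ (q (-s'))
      refine ⟨h, ?_⟩
      rw [h𝔠mem]
      refine ⟨s + c' • s', h3, ?_⟩
      rw [map_sub, ← smul_eq_C_mul, map_smul, hh, ← hs, map_add, map_smul, map_neg, smul_neg,
        sub_neg_eq_add]
  have hmapfg : (Ideal.map q 𝔅).FG := by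
    have : Ideal.map Ψ 𝔠 = Ideal.map q 𝔅 := by
      rw [h𝔠]; exact Ideal.map_comap_of_surjective Ψ hΨ _
    rw [← this]
    exact h𝔠fg.map _
  have hT : ∃ T : Finset (MvPolynomial (Fin k) A),
      (↑T : Set (MvPolynomial (Fin k) A)) ⊆ (𝔅 : Set (MvPolynomial (Fin k) A)) ∧
      ∀ x ∈ 𝔅, ∃ g ∈ Ideal.span (↑T : Set (MvPolynomial (Fin k) A)), ∃ s, x = g + t • s := by
    have h1 : (Submodule.span (MvPolynomial (Fin k) A ⧸ K)
        (q '' (𝔅 : Set (MvPolynomial (Fin k) A)))).FG := hmapfg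
    obtain ⟨T', hT'sub, hT'eq⟩ := (Submodule.fg_span_iff_fg_span_finset_subset _).mp h1
    have hlift' : ∀ y : MvPolynomial (Fin k) A ⧸ K, ∃ b : MvPolynomial (Fin k) A,
        y ∈ (↑T' : Set (MvPolynomial (Fin k) A ⧸ K)) → b ∈ 𝔅 ∧ q b = y := by
      intro y
      by_cases hy : y ∈ (↑T' : Set (MvPolynomial (Fin k) A ⧸ K))
      · obtain ⟨b, hb, hby⟩ := hT'sub hy
        exact ⟨b, fun _ => ⟨hb, hby⟩⟩
      · exact ⟨0, fun h => absurd h hy⟩
    choose lift hlift using hlift'
    refine ⟨T'.image lift, ?_, ?_⟩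
    · intro x hx
      rw [Finset.coe_image] at hx
      obtain ⟨y, hy, rfl⟩ := hx
      exact (hlift y hy).1
    · intro x hx
      have h2 : q x ∈ Ideal.map q (Ideal.span (↑(T'.image lift) : Set (MvPolynomial (Fin k) A))) := by
        rw [Ideal.map_span, Finset.coe_image, Set.image_image]
        have h3 : q x ∈ Submodule.span (MvPolynomial (Fin k) A ⧸ K)
            (q '' (𝔅 : Set (MvPolynomial (Fin k) A))) := Submodule.subset_span ⟨x, hx, rfl⟩
        rw [hT'eq] at h3
        refine Submodule.span_mono ?_ h3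
        intro y hy
        exact ⟨y, hy, (hlift y hy).2⟩
      obtain ⟨g, hg, hgx⟩ := (Ideal.mem_map_iff_of_surjective q hqsurj).mp h2
      have h4 : q (x - g) = 0 := by rw [map_sub, hgx, sub_self]
      obtain ⟨s, hs⟩ := (hKmem _).mp ((hqker _).mp h4)
      exact ⟨g, hg, s, by rw [← hs]; abel⟩
  obtain ⟨T, hT𝔅, hTgen⟩ := hT
  obtain ⟨Th, hTh⟩ : ∃ Th : Finset (MvPolynomial (Fin k) A),
      Th = T.biUnion (fun g => (Finset.range (g.totalDegree + 1)).image
        (fun e => homogeneousComponent e g)) := ⟨_, rfl⟩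
  have hThmem : ∀ x, x ∈ Th ↔ ∃ g ∈ T, ∃ e ∈ Finset.range (g.totalDegree + 1),
      homogeneousComponent e g = x := by
    intro x
    rw [hTh, Finset.mem_biUnion]
    simp only [Finset.mem_image]
  obtain ⟨𝔊, h𝔊⟩ : ∃ 𝔊 : Ideal (MvPolynomial (Fin k) A),
      𝔊 = Ideal.span (↑Th : Set (MvPolynomial (Fin k) A)) := ⟨_, rfl⟩
  have hT𝔊 : Ideal.span (↑T : Set (MvPolynomial (Fin k) A)) ≤ 𝔊 := by
    rw [Ideal.span_le]
    intro g hg
    have hsum := sum_homogeneousComponent g
    rw [SetLike.mem_coe, ← hsum, h𝔊]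
    refine Ideal.sum_mem _ (fun e he => Ideal.subset_span ?_)
    rw [Finset.mem_coe, hThmem]
    exact ⟨g, hg, e, he, rfl⟩
  have h𝔊𝔅 : 𝔊 ≤ 𝔅 := by
    rw [h𝔊, Ideal.span_le]
    intro x hx
    rw [Finset.mem_coe, hThmem] at hx
    obtain ⟨g, hg, e, -, rfl⟩ := hx
    exact hhom g (hT𝔅 hg) e
  have h𝔊hom : ∀ x ∈ 𝔊, ∀ e, homogeneousComponent e x ∈ 𝔊 := by
    intro x hx e
    rw [h𝔊] at hx ⊢
    refine homogeneousComponent_mem_span _ ?_ x hx e
    intro y hy
    rw [Finset.mem_coe, hThmem] at hy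
    obtain ⟨g, -, e', -, rfl⟩ := hy
    exact ⟨e', homogeneousComponent_isHomogeneous e' g⟩
  obtain ⟨τ, hτ⟩ : ∃ τ : A, τ = algebraMap R A t := ⟨_, rfl⟩
  have hτjac : τ ∈ Ideal.jacobson (⊥ : Ideal A) := by
    rw [hτ]; exact tau_jac R t d _ (hJ_of R t d) A φ hφ
  have hτsmul : ∀ x : MvPolynomial (Fin k) A, τ • x = t • x := by
    intro x; rw [hτ, algebraMap_smul]
  have hdeg : ∀ e : ℕ, ∀ x ∈ 𝔅, x.IsHomogeneous e → x ∈ 𝔊 := by
    intro e
    haveI : Module.Finite A ↥(homogeneousSubmodule (Fin k) A e) :=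
      Module.Finite.iff_fg.mpr (homogeneousSubmodule_fg (Fin k) A e)
    obtain ⟨Ne, hNe⟩ : ∃ Ne : Submodule A ↥(homogeneousSubmodule (Fin k) A e),
        Ne = Submodule.comap (homogeneousSubmodule (Fin k) A e).subtype
          (𝔅.restrictScalars A) := ⟨_, rfl⟩
    obtain ⟨Ne', hNe'⟩ : ∃ Ne' : Submodule A ↥(homogeneousSubmodule (Fin k) A e),
        Ne' = Submodule.comap (homogeneousSubmodule (Fin k) A e).subtype
          (𝔊.restrictScalars A) := ⟨_, rfl⟩
    have hNemem : ∀ x, x ∈ Ne ↔ (x : MvPolynomial (Fin k) A) ∈ 𝔅 := by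
      intro x; rw [hNe]; rfl
    have hNe'mem : ∀ x, x ∈ Ne' ↔ (x : MvPolynomial (Fin k) A) ∈ 𝔊 := by
      intro x; rw [hNe']; rfl
    have hNefg : Ne.FG := by
      refine sat_fg_A R t ht d _ (hJ_of R t d) A φ hφ _ Ne ?_
      intro x hx
      rw [hNemem] at hx ⊢
      have h1 : ((algebraMap R A t • x : ↥(homogeneousSubmodule (Fin k) A e)) :
          MvPolynomial (Fin k) A) = t • (x : MvPolynomial (Fin k) A) := by
        rw [Submodule.coe_smul, algebraMap_smul]
      rw [h1] at hx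
      exact hsat _ hx
    have hle : Ne ≤ Ne' := by
      refine Submodule.le_of_le_smul_of_le_jacobson_bot (I := Ideal.span {τ}) hNefg ?_ ?_
      · rw [Ideal.span_le]
        intro y hy
        rw [Set.mem_singleton_iff] at hy
        rw [hy]
        exact hτjac
      · intro x hx
        rw [hNemem] at hx
        obtain ⟨g, hg, s, hxs⟩ := hTgen _ hx
        have hxe : homogeneousComponent e (x : MvPolynomial (Fin k) A) = x :=
          homogeneousComponent_eq_self x.2
        have h2 : (x : MvPolynomial (Fin k) A) =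
            homogeneousComponent e g + t • homogeneousComponent e s := by
          rw [← hτsmul, ← map_smul, hτsmul, ← map_add, ← hxs, hxe]
        have hge : homogeneousComponent e g ∈ 𝔊 := h𝔊hom g (hT𝔊 hg) e
        have hse : homogeneousComponent e s ∈ 𝔅 := by
          apply hsat
          have h3 : t • homogeneousComponent e s =
              (x : MvPolynomial (Fin k) A) - homogeneousComponent e g := by
            rw [eq_sub_iff_add_eq, add_comm]
            exact h2.symm
          rw [h3]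
          exact 𝔅.sub_mem hx (h𝔊𝔅 hge)
        have hxeq : x = (⟨homogeneousComponent e g, homogeneousComponent_isHomogeneous e g⟩ :
            ↥(homogeneousSubmodule (Fin k) A e)) +
            τ • (⟨homogeneousComponent e s, homogeneousComponent_isHomogeneous e s⟩ :
              ↥(homogeneousSubmodule (Fin k) A e)) := by
          apply Subtype.ext
          rw [Submodule.coe_add, Submodule.coe_smul, hτsmul]
          exact h2
        rw [hxeq]
        refine Submodule.add_mem_sup ?_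
          (Submodule.smul_mem_smul (Ideal.mem_span_singleton_self τ) ?_)
        · rw [hNe'mem]; exact hge
        · rw [hNemem]; exact hse
    intro x hx hxhom
    have := hle ((hNemem ⟨x, hxhom⟩).mpr hx)
    exact (hNe'mem ⟨x, hxhom⟩).mp this
  have hle𝔅 : 𝔅 ≤ 𝔊 := by
    intro x hx
    have hsum := sum_homogeneousComponent x
    rw [← hsum]
    exact Ideal.sum_mem _ (fun e _ => hdeg e _ (hhom x hx e)
      (homogeneousComponent_isHomogeneous e x))
  have h𝔅𝔊 : 𝔅 = 𝔊 := le_antisymm hle𝔅 h𝔊𝔅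
  rw [h𝔅𝔊, h𝔊]
  exact ⟨Th, rfl⟩

end V

section Homog

variable {A : Type*} [CommRing A] (m : ℕ)

/-- dehomogenization `ζ₀ ↦ 1` -/
noncomputable def dehom : MvPolynomial (Fin (m + 1)) A →ₐ[A] MvPolynomial (Fin m) A :=
  aeval (Fin.cons 1 X : Fin (m + 1) → MvPolynomial (Fin m) A)

theorem dehom_rename (p : MvPolynomial (Fin m) A) : dehom m (rename Fin.succ p) = p := by
  unfold dehom
  rw [aeval_rename]
  have : (Fin.cons 1 X : Fin (m + 1) → MvPolynomial (Fin m) A) ∘ Fin.succ = X := by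
    funext i
    simp
  rw [this, aeval_X_left_apply]

theorem dehom_X_zero : dehom m (X 0 : MvPolynomial (Fin (m + 1)) A) = 1 := by
  unfold dehom
  rw [aeval_X, Fin.cons_zero]

/-- homogenization -/
noncomputable def homog (g : MvPolynomial (Fin m) A) : MvPolynomial (Fin (m + 1)) A :=
  ∑ e ∈ Finset.range (g.totalDegree + 1),
    X 0 ^ (g.totalDegree - e) * rename Fin.succ (homogeneousComponent e g)

theorem homog_isHomogeneous (g : MvPolynomial (Fin m) A) :
    (homog m g).IsHomogeneous g.totalDegree := by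
  unfold homog
  refine IsHomogeneous.sum _ _ _ (fun e he => ?_)
  have he' : e ≤ g.totalDegree := by
    rw [Finset.mem_range] at he; omega
  have h1 := (isHomogeneous_X_pow (R := A) (0 : Fin (m + 1)) (g.totalDegree - e)).mul
    ((homogeneousComponent_isHomogeneous e g).rename_isHomogeneous (f := Fin.succ))
  rwa [Nat.sub_add_cancel he'] at h1

theorem dehom_homog (g : MvPolynomial (Fin m) A) : dehom m (homog m g) = g := by
  unfold homog
  rw [map_sum]
  conv_rhs => rw [← sum_homogeneousComponent g]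
  refine Finset.sum_congr rfl (fun e _ => ?_)
  rw [map_mul, map_pow, dehom_X_zero, one_pow, one_mul, dehom_rename]

end Homog

/-- the truncations of the completion of a ring along a finitely generated ideal are flat
(indeed equal to the truncations of the ring) -/
theorem flat_quot_completion {T : Type u} [CommRing T] (𝔍 : Ideal T) (h𝔍 : 𝔍.FG) (m : ℕ) :
    Module.Flat (T ⧸ 𝔍 ^ m) ((T ⧸ 𝔍 ^ m) ⊗[T] AdicCompletion 𝔍 T) := by
  have hbij : Function.Bijective (algebraMap (T ⧸ 𝔍 ^ m)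
      (AdicCompletion 𝔍 T ⧸ (𝔍 ^ m).map (algebraMap T (AdicCompletion 𝔍 T)))) := by
    constructor
    · rw [injective_iff_map_eq_zero]
      intro x hx
      obtain ⟨c, rfl⟩ := Ideal.Quotient.mk_surjective x
      have h1 : algebraMap (T ⧸ 𝔍 ^ m)
          (AdicCompletion 𝔍 T ⧸ (𝔍 ^ m).map (algebraMap T (AdicCompletion 𝔍 T)))
          (Ideal.Quotient.mk _ c) = Ideal.Quotient.mk _ (algebraMap T (AdicCompletion 𝔍 T) c) :=
        rfl
      rw [h1, Ideal.Quotient.eq_zero_iff_mem, ← CT.ker_evalₐ 𝔍 h𝔍 m, RingHom.mem_ker] at hx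
      have h2 : AdicCompletion.evalₐ 𝔍 m (algebraMap T (AdicCompletion 𝔍 T) c) =
          Ideal.Quotient.mk _ c := (AdicCompletion.evalₐ 𝔍 m).commutes c
      rw [← h2]
      exact hx
    · intro y
      obtain ⟨c', rfl⟩ := Ideal.Quotient.mk_surjective y
      obtain ⟨c, hc⟩ := CT.exists_sub_mem 𝔍 h𝔍 c' m
      refine ⟨Ideal.Quotient.mk _ c, ?_⟩
      show Ideal.Quotient.mk _ (algebraMap T (AdicCompletion 𝔍 T) c) = Ideal.Quotient.mk _ c'
      rw [Ideal.Quotient.eq]
      have := neg_mem hc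
      rwa [neg_sub] at this
  haveI : Module.Flat (T ⧸ 𝔍 ^ m)
      (AdicCompletion 𝔍 T ⧸ (𝔍 ^ m).map (algebraMap T (AdicCompletion 𝔍 T))) :=
    Module.Flat.of_linearEquiv (LinearEquiv.ofBijective (Algebra.linearMap _ _) hbij).symm
  exact Module.Flat.of_linearEquiv (Algebra.TensorProduct.quotIdealMapEquivQuotTensor
    (AdicCompletion 𝔍 T) (𝔍 ^ m)).symm.toLinearEquiv

section V2

variable (R : Type u) [CommRing R] [IsDomain R] [ValuationRing R] [Ring.KrullDimLE 1 R]
  (t : R) (ht : t ≠ 0) [IsAdicComplete (Ideal.span {t}) R] (d : ℕ)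
  (A : Type u) [CommRing A] [Algebra R A]
  (φ : RPow R (Ideal.span {t}) d →ₐ[R] A) (hφ : Function.Surjective φ)

include ht hφ in
/-- Raynaud–Gruson for polynomial rings over `A`: `t`-saturated ideals of `A[ζ]` are finitely
generated -/
theorem poly_sat_fg (m : ℕ) (𝔟 : Ideal (MvPolynomial (Fin m) A))
    (hsat : ∀ x : MvPolynomial (Fin m) A, t • x ∈ 𝔟 → x ∈ 𝔟) : 𝔟.FG := by
  classical
  obtain ⟨Gset, hGset⟩ : ∃ Gset : Set (MvPolynomial (Fin (m + 1)) A),
      Gset = {F | (∃ e, F.IsHomogeneous e) ∧ dehom m F ∈ 𝔟} := ⟨_, rfl⟩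
  obtain ⟨𝔅, h𝔅⟩ : ∃ 𝔅 : Ideal (MvPolynomial (Fin (m + 1)) A), 𝔅 = Ideal.span Gset :=
    ⟨_, rfl⟩
  have hP1 : ∀ F ∈ 𝔅, dehom m F ∈ 𝔟 := by
    have : 𝔅 ≤ Ideal.comap (dehom m) 𝔟 := by
      rw [h𝔅, Ideal.span_le, hGset]
      intro F hF
      exact hF.2
    exact fun F hF => this hF
  have hP2 : ∀ x ∈ 𝔅, ∀ e, homogeneousComponent e x ∈ 𝔅 := by
    intro x hx e
    rw [h𝔅] at hx ⊢
    exact homogeneousComponent_mem_span _ (by rw [hGset]; intro y hy; exact hy.1) x hx e
  have hτ : ∀ x : MvPolynomial (Fin (m + 1)) A, t • x = (algebraMap R A t) • x :=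
    fun x => (algebraMap_smul A t x).symm
  have hP3 : ∀ x : MvPolynomial (Fin (m + 1)) A, t • x ∈ 𝔅 → x ∈ 𝔅 := by
    intro x hx
    have hsum := sum_homogeneousComponent x
    rw [← hsum]
    refine Ideal.sum_mem _ (fun e _ => ?_)
    have h1 : t • homogeneousComponent e x ∈ 𝔅 := by
      have := hP2 _ hx e
      rwa [hτ, map_smul, ← hτ] at this
    have h2 := hP1 _ h1
    rw [hτ, map_smul, algebraMap_smul] at h2
    have h3 := hsat _ h2
    rw [h𝔅]
    apply Ideal.subset_span
    rw [hGset]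
    exact ⟨⟨e, homogeneousComponent_isHomogeneous e x⟩, h3⟩
  have hfg := graded_sat_fg R t ht d A φ hφ (m + 1) 𝔅 hP2 hP3
  have h𝔟 : 𝔟 = Ideal.map (dehom m) 𝔅 := by
    apply le_antisymm
    · intro g hg
      have h1 : homog m g ∈ 𝔅 := by
        rw [h𝔅]
        apply Ideal.subset_span
        rw [hGset]
        exact ⟨⟨_, homog_isHomogeneous m g⟩, by rw [dehom_homog]; exact hg⟩
      have h2 := Ideal.mem_map_of_mem (dehom m) h1
      rwa [dehom_homog] at h2
    · rw [Ideal.map_le_iff_le_comap]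
      exact fun F hF => hP1 F hF
  rw [h𝔟]
  exact hfg.map _

variable (C : Type u) [CommRing C] [Algebra R C] [Algebra A C] [IsScalarTower R A C]
  [Algebra.FiniteType A C]

include ht hφ in
/-- `t`-saturated ideals of a finitely generated `A`-algebra are finitely generated -/
theorem ft_sat_fg (𝔠 : Ideal C) (hsat : ∀ x : C, t • x ∈ 𝔠 → x ∈ 𝔠) : 𝔠.FG := by
  obtain ⟨m, π, hπ⟩ := Algebra.FiniteType.iff_quotient_mvPolynomial''.mp
    (inferInstance : Algebra.FiniteType A C)
  have h1 : (Ideal.comap π 𝔠).FG := by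
    refine poly_sat_fg R t ht d A φ hφ m _ ?_
    intro x hx
    rw [Ideal.mem_comap] at hx ⊢
    apply hsat
    rwa [← algebraMap_smul A t x, map_smul, algebraMap_smul] at hx
  have h2 : Ideal.map π (Ideal.comap π 𝔠) = 𝔠 := Ideal.map_comap_of_surjective π hπ 𝔠
  rw [← h2]
  exact h1.map _

include ht hφ in
/-- Artin–Rees for arbitrary ideals of a finitely generated `A`-algebra -/
theorem ft_AR (J : Ideal C) :
    ∃ n₀ : ℕ, ∀ (n : ℕ) (x : C), x ∈ J → (∃ y, x = (algebraMap R C t) ^ (n + n₀) * y) →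
      ∃ z ∈ J, x = (algebraMap R C t) ^ n * z := by
  have hfg : (satSub (algebraMap R C t) J).FG := by
    refine ft_sat_fg R t ht d A φ hφ C (satSub (algebraMap R C t) J) ?_
    intro x hx
    rw [Algebra.smul_def] at hx
    exact satSub_sat _ J x hx
  obtain ⟨n₀, hn₀⟩ := exists_pow_smul_mem _ J hfg
  refine ⟨n₀, fun n x hx ⟨y, hy⟩ => ?_⟩
  have hy_sat : y ∈ satSub (algebraMap R C t) J :=
    ⟨n + n₀, by rw [smul_eq_mul, ← hy]; exact hx⟩
  refine ⟨(algebraMap R C t) ^ n₀ • y, hn₀ y hy_sat, ?_⟩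
  rw [hy, smul_eq_mul, pow_add, mul_assoc]

include ht hφ in
/-- the `t`-adic completion of a finitely generated `A`-algebra `C` is flat over `C` -/
theorem compl_flat_V :
    Module.Flat C (AdicCompletion ((Ideal.span {t}).map (algebraMap R C)) C) := by
  have hI : (Ideal.span {t}).FG := ⟨{t}, by simp⟩
  obtain ⟨dB, ψ, hψ⟩ := compl_topFiniteType R (Ideal.span {t}) C hI
    (finiteType_trunc_of_finite R _ hI A d φ hφ C 1)
  obtain ⟨τ, hτ⟩ : ∃ τ : C, τ = algebraMap R C t := ⟨_, rfl⟩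
  have hpow : ∀ m : ℕ, ((Ideal.span {t}).map (algebraMap R C)) ^ m = Ideal.span {τ ^ m} := by
    intro m
    rw [Ideal.map_span, Set.image_singleton, Ideal.span_singleton_pow, hτ]
  have hmapB : ((Ideal.span {t}).map (algebraMap R C)).map
      (algebraMap C (AdicCompletion ((Ideal.span {t}).map (algebraMap R C)) C)) =
      Ideal.span {algebraMap R (AdicCompletion ((Ideal.span {t}).map (algebraMap R C)) C) t} := by
    rw [Ideal.map_map, ← IsScalarTower.algebraMap_eq]
    exact (Ideal.map_span _ {t}).trans (by rw [Set.image_singleton])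
  refine flat_of_AR_haus (B := AdicCompletion ((Ideal.span {t}).map (algebraMap R C)) C)
    ((Ideal.span {t}).map (algebraMap R C)) ?_ ?_ ?_
  · intro J _
    obtain ⟨n₀, hn₀⟩ := ft_AR R t ht d A φ hφ C J
    refine ⟨n₀, fun n j hj => ?_⟩
    rw [Submodule.mem_comap, hpow, Ideal.mem_span_singleton'] at hj
    obtain ⟨y, hy⟩ := hj
    obtain ⟨z, hz, hzeq⟩ := hn₀ n (j : C) j.2 ⟨y, by
      rw [← hτ, mul_comm]; exact hy.symm⟩
    have hj' : j = τ ^ n • (⟨z, hz⟩ : J) := by
      apply Subtype.ext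
      rw [Submodule.coe_smul, smul_eq_mul, hτ]
      exact hzeq
    rw [hj', hpow]
    exact Submodule.smul_mem_smul (Ideal.mem_span_singleton_self _) Submodule.mem_top
  · intro J hJ x hx
    haveI : Module.Finite C J := Module.Finite.of_fg hJ
    haveI : Module.Finite (AdicCompletion ((Ideal.span {t}).map (algebraMap R C)) C)
        (AdicCompletion ((Ideal.span {t}).map (algebraMap R C)) C ⊗[C] J) :=
      Groth.Agent.H1.finite_tensor_of_finite J
    refine hausdorff R t ht dB _ (hJ_of R t dB) _ ψ hψ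
      (AdicCompletion ((Ideal.span {t}).map (algebraMap R C)) C ⊗[C] J) x fun m => ?_
    have h1 := hx m
    rw [hmapB, Ideal.span_singleton_pow, Submodule.ideal_span_singleton_smul,
      Submodule.mem_smul_pointwise_iff_exists] at h1
    obtain ⟨y, -, hy⟩ := h1
    exact ⟨y, hy.symm⟩
  · intro J m x hx
    haveI := flat_quot_completion ((Ideal.span {t}).map (algebraMap R C)) (hI.map _) m
    exact Groth.Agent.H1.mkQ_lTensor_eq_zero_of_flat_quotient J _ x hx

end V2

/-- S11539 -/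
theorem s11539 (R : Type u) [CommRing R] (I : Ideal R) (hR : AdicRing.IsBase R I)
    (A : Type u) [CommRing A] [Algebra R A] (hA : AdicRing.TopFiniteType R I A)
    (C : Type u) [CommRing C] [Algebra R C] [Algebra A C] [IsScalarTower R A C]
    [Algebra.FiniteType A C] :
    Module.Flat C (AdicCompletion (I.map (algebraMap R C)) C) := by
  obtain ⟨n, φ, hφ⟩ := hA
  obtain ⟨hc, ⟨hN, -⟩ | ⟨hdom, hpre, hdim, t, ht, rfl⟩⟩ := hR
  · haveI := hN
    haveI : IsNoetherianRing (RPow R I n) := Groth.Agent.S0543.result _ _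
    haveI : IsNoetherianRing A := isNoetherianRing_of_surjective _ A φ.toRingHom hφ
    haveI : IsNoetherianRing C := Algebra.FiniteType.isNoetherianRing A C
    infer_instance
  · haveI := hdom
    haveI : ValuationRing R := { toPreValuationRing := hpre }
    haveI := hdim
    haveI := hc
    exact compl_flat_V R t ht n A φ hφ C

end Groth.Agent.H8.RGV
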