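import Groth.Agent.Lib.Helper8.RGV.Chart
import Groth.Agent.Lib.Helper8.RigPt.Basic
import Mathlib.RingTheory.NoetherNormalization

/-!
# helper8: a quotient domain of `R⟨ζ⟩` whose generic fibre is a field is finite over `R`

Proof: Noether normalization of the special fibre, lifted to a finite injective map
`R⟨Y₁,…,Y_d⟩ → B`; lying over then forces `d = 0`.
-/

set_option autoImplicit false
universe u

open MvPolynomial IsLocalRing AdicRing

namespace Groth.Agent.H8.RGV

theorem mem_map_maximal (R : Type*) [CommRing R] [IsDomain R] [ValuationRing R]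
    (B : Type*) [CommRing B] [Algebra R B] (x : B)
    (hx : x ∈ (maximalIdeal R).map (algebraMap R B)) :
    ∃ c ∈ maximalIdeal R, ∃ b : B, x = algebraMap R B c * b := by
  refine Submodule.span_induction
    (p := fun x _ => ∃ c ∈ maximalIdeal R, ∃ b : B, x = algebraMap R B c * b) ?_ ?_ ?_ ?_ hx
  · rintro _ ⟨c, hc, rfl⟩
    exact ⟨c, hc, 1, (mul_one _).symm⟩
  · exact ⟨0, zero_mem _, 0, by simp⟩
  · rintro x y _ _ ⟨c₁, hc₁, b₁, rfl⟩ ⟨c₂, hc₂, b₂, rfl⟩
    rcases ValuationRing.dvd_total c₁ c₂ with ⟨e, rfl⟩ | ⟨e, rfl⟩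
    · exact ⟨c₁, hc₁, b₁ + algebraMap R B e * b₂, by rw [map_mul]; ring⟩
    · exact ⟨c₂, hc₂, algebraMap R B e * b₁ + b₂, by rw [map_mul]; ring⟩
  · rintro a x _ ⟨c, hc, b, rfl⟩
    exact ⟨c, hc, a * b, by rw [smul_eq_mul]; ring⟩

section V

variable (R : Type u) [CommRing R] [IsDomain R] [ValuationRing R] [Ring.KrullDimLE 1 R]
  (t : R) (ht : t ≠ 0) [IsAdicComplete (Ideal.span {t}) R] (n : ℕ)
  (B : Type u) [CommRing B] [IsDomain B] [Algebra R B]
  (φ : RPow R (Ideal.span {t}) n →ₐ[R] B) (hφ : Function.Surjective φ)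

set_option maxHeartbeats 1600000 in
include ht hφ in
theorem finite_of_field (htB : algebraMap R B t ≠ 0)
    (hfield : ∀ b : B, b ≠ 0 → ∃ (b' : B) (N : ℕ), b * b' = (algebraMap R B t) ^ N) :
    Module.Finite R B := by
  classical
  have hI : (Ideal.span {t}).FG := ⟨{t}, by simp⟩
  obtain ⟨τ, hτ⟩ : ∃ τ : B, τ = algebraMap R B t := ⟨_, rfl⟩
  have hτjac : τ ∈ Ideal.jacobson (⊥ : Ideal B) := by
    rw [hτ]; exact tau_jac R t n _ (hJ_of R t n) B φ hφ
  haveI hBcomp : IsAdicComplete (Ideal.span {t}) B :=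
    complete R t ht n _ (hJ_of R t n) B φ hφ B
  have htm : t ∈ maximalIdeal R := t_mem R t ht
  have hinjR : ∀ c : R, c ∣ t → algebraMap R B c ≠ 0 := by
    rintro c ⟨e, he⟩ h0
    apply htB
    rw [he, map_mul, h0, zero_mul]
  letI : Field (R ⧸ maximalIdeal R) := Ideal.Quotient.field _
  -- the special fibre is nontrivial
  have h𝔐ne : (maximalIdeal R).map (algebraMap R B) ≠ ⊤ := by
    intro htop
    have h1 : (1 : B) ∈ (maximalIdeal R).map (algebraMap R B) := by rw [htop]; trivial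
    obtain ⟨c, hc, b, hcb⟩ := mem_map_maximal R B 1 h1
    obtain ⟨K, e, he⟩ := exists_dvd_pow R t ht c hc
    have h2 : IsUnit (algebraMap R B c) := IsUnit.of_mul_eq_one b hcb.symm
    have h3 : IsUnit (algebraMap R B (c ^ K)) := by rw [map_pow]; exact h2.pow K
    rw [he, map_mul] at h3
    have h4 : IsUnit τ := by rw [hτ]; exact isUnit_of_mul_isUnit_left h3
    obtain ⟨u, hu⟩ := h4.exists_right_inv
    have h5 := Ideal.mem_jacobson_bot.mp hτjac (-u)
    rw [mul_neg, hu, neg_add_cancel] at h5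
    exact not_isUnit_zero h5
  haveI : Nontrivial (B ⧸ (maximalIdeal R).map (algebraMap R B)) :=
    Ideal.Quotient.nontrivial_iff.mpr h𝔐ne
  have hτ𝔐 : ∀ b : B, τ * b ∈ (maximalIdeal R).map (algebraMap R B) := by
    intro b
    rw [hτ]
    exact Ideal.mul_mem_right _ _ (Ideal.mem_map_of_mem _ htm)
  -- approximation in `B`
  have hdens : ∀ b : B, ∃ (p : MvPolynomial (Fin n) R) (b' : B),
      b = φ (algebraMap (MvPolynomial (Fin n) R) (RPow R (Ideal.span {t}) n) p) + τ * b' := by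
    intro b
    obtain ⟨x, rfl⟩ := hφ b
    obtain ⟨p, x', hx⟩ := RigPt.exists_eq_add_mul (C t) _ (hJ_of R t n) x
    refine ⟨p, φ x', ?_⟩
    rw [hx, map_add, map_mul, phi_tau, hτ]
  -- finite type over the residue field
  obtain ⟨γ, hγ⟩ : ∃ γ : MvPolynomial (Fin n) R →ₐ[R]
      B ⧸ (maximalIdeal R).map (algebraMap R B),
      γ = (Ideal.Quotient.mkₐ R _).comp (φ.comp (IsScalarTower.toAlgHom R
        (MvPolynomial (Fin n) R) (RPow R (Ideal.span {t}) n))) := ⟨_, rfl⟩
  have hγsurj : Function.Surjective γ := by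
    intro z
    obtain ⟨b, rfl⟩ := Ideal.Quotient.mk_surjective z
    obtain ⟨p, b', hb⟩ := hdens b
    refine ⟨p, ?_⟩
    rw [hγ]
    show Ideal.Quotient.mk _ (φ (algebraMap _ _ p)) = Ideal.Quotient.mk _ b
    rw [Ideal.Quotient.eq, hb, sub_add_cancel_left]
    exact neg_mem (hτ𝔐 b')
  haveI : Algebra.FiniteType R (B ⧸ (maximalIdeal R).map (algebraMap R B)) :=
    Algebra.FiniteType.of_surjective γ hγsurj
  haveI : Algebra.FiniteType (R ⧸ maximalIdeal R)
      (B ⧸ (maximalIdeal R).map (algebraMap R B)) :=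
    Algebra.FiniteType.of_restrictScalars_finiteType R _ _
  -- Noether normalization
  obtain ⟨d, g, hginj, hgint⟩ := exists_integral_inj_algHom_of_fg (R ⧸ maximalIdeal R)
    (B ⧸ (maximalIdeal R).map (algebraMap R B))
  have hy : ∀ i : Fin d, ∃ y : B,
      Ideal.Quotient.mk ((maximalIdeal R).map (algebraMap R B)) y = g (X i) :=
    fun i => Ideal.Quotient.mk_surjective _
  choose y hy using hy
  obtain ⟨β, hβ⟩ : ∃ β : MvPolynomial (Fin d) R →ₐ[R] B, β = aeval y := ⟨_, rfl⟩
  have hβC : ∀ a : R, β (C a) = algebraMap R B a := by intro a; rw [hβ, aeval_C]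
  have hβX : ∀ i, β (X i) = y i := by intro i; rw [hβ, aeval_X]
  obtain ⟨ρ, hρ⟩ : ∃ ρ : MvPolynomial (Fin d) R →+* MvPolynomial (Fin d) (R ⧸ maximalIdeal R),
      ρ = MvPolynomial.map (Ideal.Quotient.mk (maximalIdeal R)) := ⟨_, rfl⟩
  have hρC : ∀ a : R, ρ (C a) = C (Ideal.Quotient.mk (maximalIdeal R) a) := by
    intro a; rw [hρ, map_C]
  have hρX : ∀ i, ρ (X i) = X i := by intro i; rw [hρ, map_X]
  have hρsurj : Function.Surjective ρ := by
    rw [hρ]; exact MvPolynomial.map_surjective _ Ideal.Quotient.mk_surjective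
  have hρcoeff : ∀ (p : MvPolynomial (Fin d) R) (ν : Fin d →₀ ℕ),
      coeff ν (ρ p) = Ideal.Quotient.mk (maximalIdeal R) (coeff ν p) := by
    intro p ν; rw [hρ]; exact MvPolynomial.coeff_map _ _ _
  have hcompat' : (g : MvPolynomial (Fin d) (R ⧸ maximalIdeal R) →+* _).comp ρ =
      (Ideal.Quotient.mk ((maximalIdeal R).map (algebraMap R B))).comp
        (β : MvPolynomial (Fin d) R →+* B) := by
    refine MvPolynomial.ringHom_ext ?_ ?_
    · intro a
      show g (ρ (C a)) = Ideal.Quotient.mk _ (β (C a))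
      rw [hρC, hβC]
      have h1 : (C (Ideal.Quotient.mk (maximalIdeal R) a) :
          MvPolynomial (Fin d) (R ⧸ maximalIdeal R)) =
          algebraMap (R ⧸ maximalIdeal R) _ (Ideal.Quotient.mk _ a) := rfl
      rw [h1, g.commutes]
      rfl
    · intro i
      show g (ρ (X i)) = Ideal.Quotient.mk _ (β (X i))
      rw [hρX, ← hy i, hβX]
  have hcompat : ∀ p : MvPolynomial (Fin d) R,
      g (ρ p) = Ideal.Quotient.mk ((maximalIdeal R).map (algebraMap R B)) (β p) := by
    intro p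
    exact RingHom.congr_fun hcompat' p
  -- integrality modulo `t`
  obtain ⟨f₁, hf₁⟩ : ∃ f₁ : MvPolynomial (Fin d) R →+* B ⧸ Ideal.span {τ},
      f₁ = (Ideal.Quotient.mk (Ideal.span {τ})).comp (β : MvPolynomial (Fin d) R →+* B) :=
    ⟨_, rfl⟩
  have hint1 : f₁.IsIntegral := by
    intro z
    obtain ⟨b, rfl⟩ := Ideal.Quotient.mk_surjective z
    obtain ⟨Pk, hPkmonic, hPk⟩ := hgint (Ideal.Quotient.mk _ b)
    obtain ⟨P, hPmap, -, hPmonic⟩ := Polynomial.lifts_and_natDegree_eq_and_monic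
      ((Polynomial.mem_lifts _).mpr (Polynomial.map_surjective ρ hρsurj Pk)) hPkmonic
    rw [← hPmap, Polynomial.eval₂_map] at hPk
    have h1 : Polynomial.eval₂ ((Ideal.Quotient.mk ((maximalIdeal R).map (algebraMap R B))).comp
        (β : MvPolynomial (Fin d) R →+* B)) (Ideal.Quotient.mk _ b) P = 0 := by
      rw [← hcompat']; exact hPk
    rw [← Polynomial.hom_eval₂, Ideal.Quotient.eq_zero_iff_mem] at h1
    obtain ⟨c, hc, b'', hcb⟩ := mem_map_maximal R B _ h1
    obtain ⟨K, e, he⟩ := exists_dvd_pow R t ht c hc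
    have hmem : (Polynomial.eval₂ (β : MvPolynomial (Fin d) R →+* B) b P) ^ K ∈
        Ideal.span {τ} := by
      rw [hcb, mul_pow, ← map_pow, he, map_mul, Ideal.mem_span_singleton', ← hτ]
      exact ⟨algebraMap R B e * b'' ^ K, by ring⟩
    refine ⟨P ^ K, hPmonic.pow K, ?_⟩
    rw [hf₁, ← Polynomial.hom_eval₂, Polynomial.eval₂_pow, Ideal.Quotient.eq_zero_iff_mem]
    exact hmem
  have hft1 : f₁.FiniteType := by
    have h1 : (f₁.comp (algebraMap R (MvPolynomial (Fin d) R))).FiniteType := by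
      have h2 : f₁.comp (algebraMap R (MvPolynomial (Fin d) R)) =
          algebraMap R (B ⧸ Ideal.span {τ}) := by
        ext r
        rw [hf₁]
        show Ideal.Quotient.mk _ (β (C r)) = _
        rw [hβC]
        rfl
      rw [h2, RingHom.finiteType_algebraMap]
      obtain ⟨γ₁, hγ₁⟩ : ∃ γ₁ : MvPolynomial (Fin n) R →ₐ[R] B ⧸ Ideal.span {τ},
          γ₁ = (Ideal.Quotient.mkₐ R _).comp (φ.comp (IsScalarTower.toAlgHom R
            (MvPolynomial (Fin n) R) (RPow R (Ideal.span {t}) n))) := ⟨_, rfl⟩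
      refine Algebra.FiniteType.of_surjective γ₁ ?_
      intro z
      obtain ⟨b, rfl⟩ := Ideal.Quotient.mk_surjective z
      obtain ⟨p, b', hb⟩ := hdens b
      refine ⟨p, ?_⟩
      rw [hγ₁]
      show Ideal.Quotient.mk _ (φ (algebraMap _ _ p)) = Ideal.Quotient.mk _ b
      rw [Ideal.Quotient.eq, hb, sub_add_cancel_left]
      exact neg_mem (Ideal.mul_mem_right _ _ (Ideal.mem_span_singleton_self τ))
    exact RingHom.FiniteType.of_comp_finiteType h1
  have hfin1 : f₁.Finite := hint1.to_finite hft1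
  -- generators modulo `t`
  have hgen : ∃ (s : ℕ) (e : Fin s → B), ∀ b : B, ∃ (q : Fin s → MvPolynomial (Fin d) R) (b' : B),
      b = ∑ i, β (q i) * e i + τ * b' := by
    letI := f₁.toAlgebra
    haveI : Module.Finite (MvPolynomial (Fin d) R) (B ⧸ Ideal.span {τ}) := hfin1
    obtain ⟨s, m, hm⟩ := Module.Finite.exists_fin (R := MvPolynomial (Fin d) R)
      (M := B ⧸ Ideal.span {τ})
    have hlift : ∀ i, ∃ e : B, Ideal.Quotient.mk (Ideal.span {τ}) e = m i :=
      fun i => Ideal.Quotient.mk_surjective _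
    choose e he using hlift
    refine ⟨s, e, fun b => ?_⟩
    have h1 : Ideal.Quotient.mk (Ideal.span {τ}) b ∈ Submodule.span (MvPolynomial (Fin d) R)
        (Set.range m) := by rw [hm]; trivial
    obtain ⟨q, hq⟩ := (Submodule.mem_span_range_iff_exists_fun _).mp h1
    have h2 : Ideal.Quotient.mk (Ideal.span {τ}) (b - ∑ i, β (q i) * e i) = 0 := by
      rw [map_sub, map_sum, ← hq, sub_eq_zero]
      refine (Finset.sum_congr rfl fun i _ => ?_).symm
      have halg₁ : algebraMap (MvPolynomial (Fin d) R) (B ⧸ Ideal.span {τ}) (q i) =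
          Ideal.Quotient.mk _ (β (q i)) := by
        rw [RingHom.algebraMap_toAlgebra, hf₁]
        rfl
      rw [map_mul, he, Algebra.smul_def, halg₁]
    rw [Ideal.Quotient.eq_zero_iff_mem, Ideal.mem_span_singleton'] at h2
    obtain ⟨b', hb'⟩ := h2
    exact ⟨q, b', by rw [mul_comm, hb']; ring⟩
  obtain ⟨s, e, hgen⟩ := hgen
  haveI hBhaus : IsHausdorff (Ideal.span {t}) B := hBcomp.toIsHausdorff
  rcases Nat.eq_zero_or_pos d with hd | hd
  · -- `d = 0`: finite over `R`
    subst hd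
    have h1 : (⊤ : Submodule R B) = Submodule.span R (Set.range e) := by
      refine submodule_eq_of_le_sup_smul (Ideal.span {t}) ⊤ _
        (Submodule.fg_span (Set.finite_range e)) le_top ?_
      intro b _
      obtain ⟨q, b', hb⟩ := hgen b
      rw [hb]
      refine Submodule.add_mem_sup (Submodule.sum_mem _ fun i _ => ?_) ?_
      · rw [(q i).eq_C_of_isEmpty, hβC, ← Algebra.smul_def]
        exact Submodule.smul_mem _ _ (Submodule.subset_span ⟨i, rfl⟩)
      · rw [hτ, ← Algebra.smul_def]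
        exact Submodule.smul_mem_smul (Ideal.mem_span_singleton_self t) Submodule.mem_top
    exact ⟨by rw [h1]; exact Submodule.fg_span (Set.finite_range e)⟩
  · -- `d ≥ 1`: contradiction
    exfalso
    have hJd := hJ_of R t d
    obtain ⟨ψ, hψ⟩ := RigPt.exists_lift t ((Ideal.span {t}).map
      (C : R →+* MvPolynomial (Fin d) R)) hJd B β
    letI algP : Algebra (RPow R (Ideal.span {t}) d) B := ψ.toRingHom.toAlgebra
    have halgP : ∀ x : RPow R (Ideal.span {t}) d, algebraMap (RPow R (Ideal.span {t}) d) B x =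
        ψ x := fun _ => rfl
    haveI : IsScalarTower R (RPow R (Ideal.span {t}) d) B :=
      IsScalarTower.of_algebraMap_eq (fun r => (ψ.commutes r).symm)
    obtain ⟨τP, hτP⟩ : ∃ τP : RPow R (Ideal.span {t}) d,
        τP = algebraMap R (RPow R (Ideal.span {t}) d) t := ⟨_, rfl⟩
    have hψτ : ψ τP = τ := by rw [hτP, ψ.commutes, hτ]
    haveI hPcomp : IsAdicComplete (Ideal.span {τP}) (RPow R (Ideal.span {t}) d) := by
      rw [hτP]; exact P_complete R t d _ hJd
    have hspanP : (Ideal.span {t}).map (algebraMap R (RPow R (Ideal.span {t}) d)) =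
        Ideal.span {τP} := by
      rw [hτP]
      exact (Ideal.map_span _ {t}).trans (by rw [Set.image_singleton])
    haveI : IsHausdorff (Ideal.span {τP}) B := by
      rw [← hspanP]
      exact IsHausdorff.map_algebraMap_iff.mpr hBhaus
    -- finiteness over `R⟨Y⟩`
    have h1 : (⊤ : Submodule (RPow R (Ideal.span {t}) d) B) =
        Submodule.span (RPow R (Ideal.span {t}) d) (Set.range e) := by
      refine submodule_eq_of_le_sup_smul (Ideal.span {τP}) ⊤ _
        (Submodule.fg_span (Set.finite_range e)) le_top ?_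
      intro b _
      obtain ⟨q, b', hb⟩ := hgen b
      rw [hb]
      refine Submodule.add_mem_sup (Submodule.sum_mem _ fun i _ => ?_) ?_
      · rw [← hψ (q i), ← halgP, ← Algebra.smul_def]
        exact Submodule.smul_mem _ _ (Submodule.subset_span ⟨i, rfl⟩)
      · rw [← hψτ, ← halgP, ← Algebra.smul_def]
        exact Submodule.smul_mem_smul (Ideal.mem_span_singleton_self τP) Submodule.mem_top
    haveI : Module.Finite (RPow R (Ideal.span {t}) d) B :=
      ⟨by rw [h1]; exact Submodule.fg_span (Set.finite_range e)⟩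
    haveI : Algebra.IsIntegral (RPow R (Ideal.span {t}) d) B := Algebra.IsIntegral.of_finite _ _
    -- injectivity
    obtain ⟨𝔨, h𝔨⟩ : ∃ 𝔨 : Ideal (RPow R (Ideal.span {t}) d), 𝔨 = RingHom.ker ψ.toRingHom :=
      ⟨_, rfl⟩
    have h𝔨mem : ∀ x, x ∈ 𝔨 ↔ ψ x = 0 := by
      intro x; rw [h𝔨, RingHom.mem_ker]; rfl
    have h𝔨fg : 𝔨.FG := by
      have h2 := ker_fg R t ht d _ hJd (RPow R (Ideal.span {t}) d ⧸ 𝔨) (Ideal.Quotient.mkₐ R 𝔨)
        (Ideal.Quotient.mkₐ_surjective R 𝔨) (by
          intro x hx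
          obtain ⟨p, rfl⟩ := Ideal.Quotient.mk_surjective x
          have h3 : algebraMap R (RPow R (Ideal.span {t}) d ⧸ 𝔨) t * Ideal.Quotient.mk 𝔨 p =
              Ideal.Quotient.mk 𝔨 (τP * p) := by
            rw [map_mul, hτP]; rfl
          rw [h3, Ideal.Quotient.eq_zero_iff_mem, h𝔨mem, map_mul, hψτ] at hx
          rw [Ideal.Quotient.eq_zero_iff_mem, h𝔨mem]
          rcases mul_eq_zero.mp hx with h | h
          · exact absurd (hτ ▸ h) htB
          · exact h)
      have h4 : RingHom.ker (Ideal.Quotient.mkₐ R 𝔨).toRingHom = 𝔨 := Ideal.mk_ker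
      rwa [h4] at h2
    have hkey : ∀ x ∈ 𝔨, ∃ c ∈ maximalIdeal R, ∃ x'' ∈ 𝔨,
        x = algebraMap R (RPow R (Ideal.span {t}) d) c * x'' := by
      intro x hx
      obtain ⟨p, x', hxp⟩ := RigPt.exists_eq_add_mul (C t) _ hJd x
      have hCt : algebraMap (MvPolynomial (Fin d) R) (RPow R (Ideal.span {t}) d) (C t) = τP := by
        rw [hτP]; rfl
      rw [hCt] at hxp
      have h2 : β p + τ * ψ x' = 0 := by
        have := (h𝔨mem x).mp hx
        rwa [hxp, map_add, map_mul, hψ, hψτ] at this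
      have h3 : ρ p = 0 := by
        apply hginj
        rw [map_zero, hcompat, Ideal.Quotient.eq_zero_iff_mem]
        have : β p = -(τ * ψ x') := eq_neg_of_add_eq_zero_left h2
        rw [this]
        exact neg_mem (hτ𝔐 _)
      have hcoef : ∀ ν, coeff ν p ∈ maximalIdeal R := by
        intro ν
        have := hρcoeff p ν
        rw [h3, coeff_zero, eq_comm, Ideal.Quotient.eq_zero_iff_mem] at this
        exact this
      obtain ⟨c, hcs, hcdvd⟩ := exists_dvd_all' (insert t (p.support.image (fun ν => coeff ν p)))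
        (Finset.insert_nonempty _ _) id
      have hc𝔪 : c ∈ maximalIdeal R := by
        rcases Finset.mem_insert.mp hcs with rfl | h
        · exact htm
        · obtain ⟨ν, -, rfl⟩ := Finset.mem_image.mp h
          exact hcoef ν
      have hct : c ∣ t := hcdvd t (Finset.mem_insert_self _ _)
      have hcν : ∀ ν, ∃ a, coeff ν p = c * a := by
        intro ν
        by_cases hν : ν ∈ p.support
        · exact hcdvd _ (Finset.mem_insert_of_mem (Finset.mem_image_of_mem _ hν))
        · exact ⟨0, by rw [mul_zero]; exact notMem_support_iff.mp hν⟩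
      choose a ha using hcν
      obtain ⟨c₂, hc₂⟩ := hct
      have hp : p = C c * ∑ ν ∈ p.support, monomial ν (a ν) := by
        conv_lhs => rw [p.as_sum]
        rw [Finset.mul_sum]
        refine Finset.sum_congr rfl fun ν _ => ?_
        rw [C_mul_monomial, ha]
      obtain ⟨x'', hx''⟩ : ∃ x'' : RPow R (Ideal.span {t}) d,
          x'' = algebraMap (MvPolynomial (Fin d) R) _ (∑ ν ∈ p.support, monomial ν (a ν)) +
            algebraMap R _ c₂ * x' := ⟨_, rfl⟩
      have hxeq : x = algebraMap R (RPow R (Ideal.span {t}) d) c * x'' := by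
        have hCc : algebraMap (MvPolynomial (Fin d) R) (RPow R (Ideal.span {t}) d) (C c) =
            algebraMap R _ c := rfl
        have hτPc : τP = algebraMap R (RPow R (Ideal.span {t}) d) c *
            algebraMap R (RPow R (Ideal.span {t}) d) c₂ := by
          rw [hτP, ← map_mul]
          exact congrArg (algebraMap R (RPow R (Ideal.span {t}) d)) hc₂
        have hιp : algebraMap (MvPolynomial (Fin d) R) (RPow R (Ideal.span {t}) d) p =
            algebraMap R (RPow R (Ideal.span {t}) d) c *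
              algebraMap (MvPolynomial (Fin d) R) (RPow R (Ideal.span {t}) d)
                (∑ ν ∈ p.support, monomial ν (a ν)) := by
          conv_lhs => rw [hp]
          rw [map_mul, hCc]
        rw [hxp, hx'', hτPc, hιp]
        ring
      refine ⟨c, hc𝔪, x'', ?_, hxeq⟩
      rw [h𝔨mem]
      have h5 := (h𝔨mem x).mp hx
      rw [hxeq, map_mul, ψ.commutes] at h5
      rcases mul_eq_zero.mp h5 with h | h
      · exact absurd h (hinjR c ⟨c₂, hc₂⟩)
      · exact h
    have h𝔨bot : 𝔨 = ⊥ := by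
      obtain ⟨S, hS⟩ := h𝔨fg
      rcases S.eq_empty_or_nonempty with hSe | hSne
      · rw [← hS, hSe]; simp
      have hch : ∀ x : RPow R (Ideal.span {t}) d, ∃ c : R, ∃ x'' : RPow R (Ideal.span {t}) d,
          x ∈ S → c ∈ maximalIdeal R ∧ x'' ∈ 𝔨 ∧
            x = algebraMap R (RPow R (Ideal.span {t}) d) c * x'' := by
        intro x
        by_cases hxS : x ∈ S
        · obtain ⟨c, hc, x'', hx'', hxe⟩ := hkey x (hS ▸ Ideal.subset_span hxS)
          exact ⟨c, x'', fun _ => ⟨hc, hx'', hxe⟩⟩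
        · exact ⟨0, 0, fun h => absurd h hxS⟩
      choose cc xx hcx using hch
      obtain ⟨x₀, hx₀S, hx₀⟩ := exists_dvd_all' S hSne cc
      obtain ⟨c, hc⟩ : ∃ c : R, c = cc x₀ := ⟨_, rfl⟩
      have hc𝔪 : c ∈ maximalIdeal R := by rw [hc]; exact (hcx x₀ hx₀S).1
      have hle : 𝔨 ≤ Ideal.span {algebraMap R (RPow R (Ideal.span {t}) d) c} • 𝔨 := by
        rw [← hS] 
        conv_lhs => rw [Ideal.span]
        rw [Submodule.span_le]
        intro x hxS
        obtain ⟨h1, h2, h3⟩ := hcx x hxS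
        obtain ⟨e', he'⟩ := hx₀ x hxS
        rw [SetLike.mem_coe, h3, he', ← hc, map_mul, mul_assoc]
        refine Submodule.smul_mem_smul (Ideal.mem_span_singleton_self _) ?_
        rw [hS]
        exact Ideal.mul_mem_left _ _ h2
      have hjac : Ideal.span {algebraMap R (RPow R (Ideal.span {t}) d) c} ≤
          Ideal.jacobson (⊥ : Ideal (RPow R (Ideal.span {t}) d)) := by
        rw [Ideal.span_le, Set.singleton_subset_iff, SetLike.mem_coe]
        obtain ⟨K, e', he'⟩ := exists_dvd_pow R t ht c hc𝔪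
        have hτPjac : τP ∈ Ideal.jacobson (⊥ : Ideal (RPow R (Ideal.span {t}) d)) := by
          have := CT.map_le_jacobson ((Ideal.span {t}).map (C : R →+* MvPolynomial (Fin d) R))
            (hI.map _)
          apply this
          rw [hτP]
          exact Ideal.mem_map_of_mem _ (Ideal.mem_map_of_mem _ (Ideal.mem_span_singleton_self t))
        rw [Ideal.jacobson, Ideal.mem_sInf]
        rintro M ⟨-, hM⟩
        apply hM.isPrime.mem_of_pow_mem K
        rw [← map_pow, he', map_mul, ← hτP]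
        apply Ideal.mul_mem_right
        have h6 : Ideal.jacobson (⊥ : Ideal (RPow R (Ideal.span {t}) d)) ≤ M :=
          sInf_le ⟨bot_le, hM⟩
        exact h6 hτPjac
      exact Submodule.eq_bot_of_le_smul_of_le_jacobson_bot _ 𝔨 (hS ▸ ⟨S, rfl⟩) hle hjac
    -- the point `Y = 0`
    obtain ⟨ev, hev⟩ := RigPt.exists_lift t ((Ideal.span {t}).map
      (C : R →+* MvPolynomial (Fin d) R)) hJd R
      (aeval (fun _ : Fin d => (0 : R)) : MvPolynomial (Fin d) R →ₐ[R] R)
    obtain ⟨𝔮, h𝔮⟩ : ∃ 𝔮 : Ideal (RPow R (Ideal.span {t}) d), 𝔮 = RingHom.ker ev.toRingHom :=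
      ⟨_, rfl⟩
    have h𝔮mem : ∀ x, x ∈ 𝔮 ↔ ev x = 0 := by
      intro x; rw [h𝔮, RingHom.mem_ker]; rfl
    haveI h𝔮prime : 𝔮.IsPrime := by rw [h𝔮]; exact RingHom.ker_isPrime _
    obtain ⟨Y₁, hY₁⟩ : ∃ Y₁ : RPow R (Ideal.span {t}) d,
        Y₁ = algebraMap (MvPolynomial (Fin d) R) _ (X ⟨0, hd⟩) := ⟨_, rfl⟩
    have hY₁𝔮 : Y₁ ∈ 𝔮 := by
      rw [h𝔮mem, hY₁, hev, aeval_X]
    have hτP𝔮 : τP ∉ 𝔮 := by
      rw [h𝔮mem, hτP, ev.commutes]
      exact ht
    obtain ⟨𝔔, -, h𝔔prime, h𝔔⟩ := Ideal.exists_ideal_over_prime_of_isIntegral (S := B) 𝔮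
      (⊥ : Ideal B) (by
        intro x hx
        rw [Ideal.mem_comap, Ideal.mem_bot, halgP] at hx
        have : x ∈ 𝔨 := (h𝔨mem x).mpr hx
        rw [h𝔨bot, Ideal.mem_bot] at this
        rw [this]
        exact zero_mem _)
    have h𝔔mem : ∀ x, ψ x ∈ 𝔔 ↔ x ∈ 𝔮 := by
      intro x
      rw [← h𝔔, Ideal.mem_comap, halgP]
    have hy₁ : ψ Y₁ ∈ 𝔔 := (h𝔔mem _).mpr hY₁𝔮
    have hy₁ne : ψ Y₁ ≠ 0 := by
      rw [hY₁, hψ, hβX]
      intro h0
      have h1 := hy ⟨0, hd⟩
      rw [h0, map_zero] at h1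
      have h2 : (X ⟨0, hd⟩ : MvPolynomial (Fin d) (R ⧸ maximalIdeal R)) = 0 :=
        hginj (by rw [map_zero]; exact h1.symm)
      exact X_ne_zero _ h2
    obtain ⟨b', N, hbN⟩ := hfield _ hy₁ne
    have h2 : τ ^ N ∈ 𝔔 := by
      rw [hτ, ← hbN]
      exact Ideal.mul_mem_right _ _ hy₁
    have h3 : τ ∈ 𝔔 := h𝔔prime.mem_of_pow_mem N h2
    rw [← hψτ, h𝔔mem] at h3
    exact hτP𝔮 h3

end V

end Groth.Agent.H8.RGV
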