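import Groth.Agent.Lib.Helper8.RGV.Rig1
import Mathlib.RingTheory.Localization.BaseChange

/-!
# helper8: rig-points of an admissible algebra over a complete height one valuation ring
(S11543)
-/

set_option autoImplicit false
universe u

open MvPolynomial IsLocalRing AdicRing TensorProduct

namespace Groth.Agent.H8.RGV

theorem fractionRing_away (R : Type u) [CommRing R] [IsDomain R] [ValuationRing R]
    [Ring.KrullDimLE 1 R] (t : R) (ht : t ≠ 0) [IsAdicComplete (Ideal.span {t}) R] :
    IsLocalization.Away t (FractionRing R) := by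
  have h₁ : Submonoid.powers t ≤ nonZeroDivisors R := by
    rintro _ ⟨k, rfl⟩
    exact mem_nonZeroDivisors_of_ne_zero (pow_ne_zero k ht)
  have h₂ : ∀ c ∈ nonZeroDivisors R, ∃ m ∈ Submonoid.powers t, c ∣ m := by
    intro c hc
    have hc0 : c ≠ 0 := nonZeroDivisors.ne_zero hc
    obtain ⟨K, hK⟩ := exists_dvd_pow R c hc0 t (t_mem R t ht)
    exact ⟨t ^ K, ⟨K, rfl⟩, hK⟩
  exact (IsLocalization.iff_of_le_of_exists_dvd (Submonoid.powers t) (nonZeroDivisors R)
    h₁ h₂).mpr inferInstance

section Abs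

variable {A : Type*} [CommRing A] (τ : A) (L : Type*) [CommRing L] [Algebra A L]
  [IsLocalization.Away τ L]

omit [IsLocalization.Away τ L] [Algebra A L] in
theorem away_disjoint (p : Ideal A) (hp : p.IsPrime) (hτp : τ ∉ p) :
    Disjoint (Submonoid.powers τ : Set A) (p : Set A) := by
  rw [Set.disjoint_left]
  rintro _ ⟨k, rfl⟩ hk
  exact hτp (hp.mem_of_pow_mem k hk)

theorem away_tau_notMem (m : Ideal L) (hm : m ≠ ⊤) : τ ∉ m.comap (algebraMap A L) := by
  intro h
  apply hm
  exact Ideal.eq_top_of_isUnit_mem _ h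
    (IsLocalization.map_units L (⟨τ, Submonoid.mem_powers τ⟩ : Submonoid.powers τ))

theorem away_map_isMaximal (hjac : τ ∈ Ideal.jacobson (⊥ : Ideal A)) (p : Ideal A)
    (hp : p.IsPrime) (hτp : τ ∉ p) (hdim : ringKrullDim (A ⧸ p) = 1) :
    (p.map (algebraMap A L)).IsMaximal ∧
      (p.map (algebraMap A L)).comap (algebraMap A L) = p := by
  have hdisj := away_disjoint τ p hp hτp
  have hcomap : (p.map (algebraMap A L)).comap (algebraMap A L) = p :=
    IsLocalization.under_map_of_isPrime_disjoint (Submonoid.powers τ) L hp hdisj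
  refine ⟨?_, hcomap⟩
  have hprime : (p.map (algebraMap A L)).IsPrime :=
    IsLocalization.isPrime_of_isPrime_disjoint (Submonoid.powers τ) L p hp hdisj
  obtain ⟨Q, hQmax, hle⟩ := Ideal.exists_le_maximal _ hprime.ne_top
  obtain ⟨q, hq⟩ : ∃ q : Ideal A, q = Q.comap (algebraMap A L) := ⟨_, rfl⟩
  haveI := hQmax.isPrime
  have hqprime : q.IsPrime := by rw [hq]; exact Ideal.comap_isPrime _ _
  have hpq : p ≤ q := by rw [hq, ← hcomap]; exact Ideal.comap_mono hle
  have hτq : τ ∉ q := by rw [hq]; exact away_tau_notMem τ L Q hQmax.ne_top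
  have hQ : q.map (algebraMap A L) = Q := by
    rw [hq]; exact IsLocalization.map_under (Submonoid.powers τ) L Q
  by_cases hpq' : p = q
  · rw [hpq', hQ]; exact hQmax
  · exfalso
    haveI := hp
    haveI := hqprime
    haveI : Ring.KrullDimLE 1 (A ⧸ p) := Ring.krullDimLE_iff.mpr (by rw [hdim]; simp)
    have hq'prime : (q.map (Ideal.Quotient.mk p)).IsPrime :=
      Ideal.map_isPrime_of_surjective Ideal.Quotient.mk_surjective
        (by rw [Ideal.mk_ker]; exact hpq)
    have hq'ne : q.map (Ideal.Quotient.mk p) ≠ ⊥ := by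
      intro h0
      apply hpq'
      refine le_antisymm hpq ?_
      intro x hx
      have h1 : Ideal.Quotient.mk p x ∈ q.map (Ideal.Quotient.mk p) :=
        Ideal.mem_map_of_mem _ hx
      rw [h0, Ideal.mem_bot, Ideal.Quotient.eq_zero_iff_mem] at h1
      exact h1
    haveI hq'max : (q.map (Ideal.Quotient.mk p)).IsMaximal :=
      hq'prime.isMaximal_of_ne_bot hq'ne
    have hqmax : q.IsMaximal := by
      have h1 : (q.map (Ideal.Quotient.mk p)).comap (Ideal.Quotient.mk p) = q := by
        rw [Ideal.comap_map_of_surjective _ Ideal.Quotient.mk_surjective,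
          ← RingHom.ker_eq_comap_bot, Ideal.mk_ker, sup_eq_left]
        exact hpq
      rw [← h1]
      exact Ideal.comap_isMaximal_of_surjective _ Ideal.Quotient.mk_surjective
    apply hτq
    have h2 : Ideal.jacobson (⊥ : Ideal A) ≤ q := sInf_le ⟨bot_le, hqmax⟩
    exact h2 hjac

end Abs

section V

variable (R : Type u) [CommRing R] [IsDomain R] [ValuationRing R] [Ring.KrullDimLE 1 R]
  (t : R) (ht : t ≠ 0) [IsAdicComplete (Ideal.span {t}) R] (n : ℕ)
  (A : Type u) [CommRing A] [Algebra R A]
  (φ : RPow R (Ideal.span {t}) n →ₐ[R] A) (hφ : Function.Surjective φ)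
  (L : Type*) [CommRing L] [Algebra A L] [IsLocalization.Away (algebraMap R A t) L]

include ht hφ in
theorem away_comap_maximal (m : Ideal L) (hm : m.IsMaximal) :
    algebraMap R A t ∉ m.comap (algebraMap A L) ∧
      ringKrullDim (A ⧸ m.comap (algebraMap A L)) = 1 ∧
      (m.comap (algebraMap A L)).map (algebraMap A L) = m := by
  obtain ⟨p, hp⟩ : ∃ p : Ideal A, p = m.comap (algebraMap A L) := ⟨_, rfl⟩
  rw [← hp]
  haveI := hm.isPrime
  haveI hpprime : p.IsPrime := by rw [hp]; exact Ideal.comap_isPrime _ _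
  have hτp : algebraMap R A t ∉ p := by
    rw [hp]; exact away_tau_notMem _ L m hm.ne_top
  have hpm : p.map (algebraMap A L) = m := by
    rw [hp]; exact IsLocalization.map_under (Submonoid.powers (algebraMap R A t)) L m
  refine ⟨hτp, ?_, hpm⟩
  have htB : algebraMap R (A ⧸ p) t ≠ 0 := by
    intro h0
    apply hτp
    rw [← Ideal.Quotient.eq_zero_iff_mem]
    exact h0
  have hfield : ∀ b : A ⧸ p, b ≠ 0 →
      ∃ (b' : A ⧸ p) (N : ℕ), b * b' = (algebraMap R (A ⧸ p) t) ^ N := by
    intro b hb
    obtain ⟨a, rfl⟩ := Ideal.Quotient.mk_surjective b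
    have ha : a ∉ p := fun h => hb (Ideal.Quotient.eq_zero_iff_mem.mpr h)
    have h1 : (p ⊔ Ideal.span {a}).map (algebraMap A L) = ⊤ := by
      by_contra hne
      have hle : m ≤ (p ⊔ Ideal.span {a}).map (algebraMap A L) := by
        rw [← hpm]; exact Ideal.map_mono le_sup_left
      have h2 := hm.eq_of_le hne hle
      apply ha
      rw [hp, Ideal.mem_comap, h2]
      exact Ideal.mem_map_of_mem _ (Ideal.mem_sup_right (Ideal.mem_span_singleton_self a))
    have h2 : ¬ Disjoint (Submonoid.powers (algebraMap R A t) : Set A)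
        ((p ⊔ Ideal.span {a} : Ideal A) : Set A) := by
      rw [← IsLocalization.map_algebraMap_ne_top_iff_disjoint
        (Submonoid.powers (algebraMap R A t)) L]
      exact not_not.mpr h1
    rw [Set.not_disjoint_iff] at h2
    obtain ⟨_, ⟨N, rfl⟩, hx⟩ := h2
    obtain ⟨y, hy, z, hz, hyz⟩ := Submodule.mem_sup.mp hx
    obtain ⟨a', rfl⟩ := Ideal.mem_span_singleton'.mp hz
    refine ⟨Ideal.Quotient.mk p a', N, ?_⟩
    have h3 : algebraMap R (A ⧸ p) t = Ideal.Quotient.mk p (algebraMap R A t) := rfl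
    rw [h3, ← map_pow, ← map_mul]
    have h4 : (algebraMap R A t) ^ N = y + a' * a := hyz.symm
    rw [h4, map_add, Ideal.Quotient.eq_zero_iff_mem.mpr hy, zero_add, mul_comm]
  have hφ' : Function.Surjective ((Ideal.Quotient.mkₐ R p).comp φ) := by
    intro z
    obtain ⟨a, rfl⟩ := Ideal.Quotient.mkₐ_surjective R p z
    obtain ⟨x, rfl⟩ := hφ a
    exact ⟨x, rfl⟩
  haveI : Module.Finite R (A ⧸ p) :=
    finite_of_field R t ht n (A ⧸ p) ((Ideal.Quotient.mkₐ R p).comp φ) hφ' htB hfield
  haveI : Algebra.IsIntegral R (A ⧸ p) := Algebra.IsIntegral.of_finite _ _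
  have hinj : Function.Injective (algebraMap R (A ⧸ p)) := by
    rw [injective_iff_map_eq_zero]
    intro c hc
    by_contra hc0
    obtain ⟨K, e, he⟩ := exists_dvd_pow R c hc0 t (t_mem R t ht)
    apply htB
    have h5 : algebraMap R (A ⧸ p) (t ^ K) = 0 := by rw [he, map_mul, hc, zero_mul]
    rw [map_pow] at h5
    exact eq_zero_of_pow_eq_zero h5
  rw [RigPt.ringKrullDim_eq_of_integral_injective R (A ⧸ p) hinj]
  haveI : (maximalIdeal R).IsPrime := (IsLocalRing.maximalIdeal.isMaximal R).isPrime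
  refine RigPt.ringKrullDim_eq_one R (maximalIdeal R) ?_
  intro h0
  have h6 := t_mem R t ht
  rw [h0, Ideal.mem_bot] at h6
  exact ht h6

end V

theorem s11543
    (R : Type u) [CommRing R] [IsDomain R] [ValuationRing R] [Ring.KrullDimLE 1 R]
    (t : R) (ht : t ≠ 0) [IsAdicComplete (Ideal.span {t}) R]
    (A : Type u) [CommRing A] [Algebra R A] (hA : AdicRing.Admissible R (Ideal.span {t}) A) :
    (∀ p : Ideal A, p.IsPrime → algebraMap R A t ∉ p → ringKrullDim (A ⧸ p) = 1 →
        (p.map (Algebra.TensorProduct.includeLeftRingHom :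
          A →+* A ⊗[R] FractionRing R)).IsMaximal ∧
        (p.map (Algebra.TensorProduct.includeLeftRingHom :
          A →+* A ⊗[R] FractionRing R)).comap (Algebra.TensorProduct.includeLeftRingHom :
          A →+* A ⊗[R] FractionRing R) = p) ∧
      (∀ m : Ideal (A ⊗[R] FractionRing R), m.IsMaximal →
        algebraMap R A t ∉ m.comap (Algebra.TensorProduct.includeLeftRingHom :
            A →+* A ⊗[R] FractionRing R) ∧
          ringKrullDim (A ⧸ m.comap (Algebra.TensorProduct.includeLeftRingHom :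
            A →+* A ⊗[R] FractionRing R)) = 1 ∧
          (m.comap (Algebra.TensorProduct.includeLeftRingHom :
            A →+* A ⊗[R] FractionRing R)).map (Algebra.TensorProduct.includeLeftRingHom :
            A →+* A ⊗[R] FractionRing R) = m) := by
  obtain ⟨⟨n, φ, hφ, -⟩, -⟩ := hA
  haveI : IsLocalization.Away t (FractionRing R) := fractionRing_away R t ht
  haveI : IsLocalization.Away (algebraMap R A t) (A ⊗[R] FractionRing R) :=
    IsLocalization.Away.tensor t (FractionRing R)
  refine ⟨fun p hp hτp hdim => ?_, fun m hm => ?_⟩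
  · exact away_map_isMaximal (algebraMap R A t) (A ⊗[R] FractionRing R)
      (tau_jac R t n _ (hJ_of R t n) A φ hφ) p hp hτp hdim
  · exact away_comap_maximal R t ht n A φ hφ (A ⊗[R] FractionRing R) m hm

end Groth.Agent.H8.RGV
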