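import Groth.Agent.Lib.Helper8.RGV.Trunc

/-!
# helper8: `A` is topologically of finite presentation iff all truncations are of finite
presentation
-/

set_option autoImplicit false
universe u

open MvPolynomial IsLocalRing AdicRing

namespace Groth.Agent.H8.RGV

section V

variable (R : Type u) [CommRing R] [IsDomain R] [ValuationRing R] [Ring.KrullDimLE 1 R]
  (t : R) (ht : t ≠ 0) [IsAdicComplete (Ideal.span {t}) R] (d : ℕ)
  (A : Type u) [CommRing A] [Algebra R A]
  (φ : RPow R (Ideal.span {t}) d →ₐ[R] A) (hφ : Function.Surjective φ)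

local notation "C₀" => MvPolynomial (Fin d) R
set_option quotPrecheck false in
local notation "P" => RPow R (Ideal.span {t}) d

include ht hφ in
theorem ker_fg_of_trunc
    (htr : ∀ k : ℕ, 1 ≤ k →
      Algebra.FinitePresentation R (A ⧸ ((Ideal.span {t}) ^ k).map (algebraMap R A))) :
    (RingHom.ker φ.toRingHom).FG := by
  classical
  have hI : (Ideal.span {t}).FG := ⟨{t}, by simp⟩
  have hJfg : ((Ideal.span {t}).map (C : R →+* C₀)).FG := hI.map _
  obtain ⟨τ, hτ⟩ : ∃ τ : P, τ = algebraMap R P t := ⟨_, rfl⟩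
  obtain ⟨𝔞, h𝔞⟩ : ∃ 𝔞 : Ideal P, 𝔞 = RingHom.ker φ.toRingHom := ⟨_, rfl⟩
  have h𝔞mem : ∀ x : P, x ∈ 𝔞 ↔ φ x = 0 := by
    intro x; rw [h𝔞, RingHom.mem_ker]; rfl
  obtain ⟨n₀, hn₀⟩ := AR_A R t ht d _ (hJ_of R t d) P (AlgHom.id R P) Function.surjective_id
    P 𝔞
  obtain ⟨k, hk⟩ : ∃ k : ℕ, k = 1 + n₀ := ⟨_, rfl⟩
  haveI := htr k (by omega)
  have hρsurj := rho_surjective R (Ideal.span {t}) d A φ hφ hI k
  have hkerρ : (RingHom.ker (rho R (Ideal.span {t}) d A φ k).toRingHom).FG :=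
    Algebra.FinitePresentation.ker_fG_of_surjective _ hρsurj
  obtain ⟨S, hS⟩ := hkerρ
  have hpowk : ((Ideal.span {t}) ^ k).map (algebraMap R P) = Ideal.span {τ ^ k} := by
    rw [Ideal.span_singleton_pow, Ideal.map_span (algebraMap R P) {t ^ k}, Set.image_singleton,
      map_pow, hτ]
  have hx : ∀ f : C₀, f ∈ RingHom.ker (rho R (Ideal.span {t}) d A φ k).toRingHom →
      ∃ x : P, x ∈ 𝔞 ∧ algebraMap C₀ P f - x ∈ ((Ideal.span {t}) ^ k).map (algebraMap R P) := by
    intro f hf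
    rw [RingHom.mem_ker] at hf
    change rho R (Ideal.span {t}) d A φ k f = 0 at hf
    rw [rho_apply, Ideal.Quotient.eq_zero_iff_mem, ← phi_map R (Ideal.span {t}) d A φ k,
      Ideal.mem_map_iff_of_surjective φ.toRingHom hφ] at hf
    obtain ⟨r, hr, hrf⟩ := hf
    refine ⟨algebraMap C₀ P f - r, ?_, ?_⟩
    · rw [h𝔞mem, map_sub, sub_eq_zero]
      exact hrf.symm
    · rw [sub_sub_cancel]
      exact hr
  choose! xf hxf𝔞 hxfsub using hx
  obtain ⟨𝔞', h𝔞'def⟩ : ∃ 𝔞' : Ideal P, 𝔞' = Ideal.span (xf '' (↑S : Set C₀)) := ⟨_, rfl⟩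
  have hSker : ∀ s ∈ S, s ∈ RingHom.ker (rho R (Ideal.span {t}) d A φ k).toRingHom :=
    fun s hs => hS ▸ Ideal.subset_span hs
  have h𝔞'fg : 𝔞'.FG := by
    rw [h𝔞'def]; exact Submodule.fg_span (S.finite_toSet.image _)
  have h𝔞'le : 𝔞' ≤ 𝔞 := by
    rw [h𝔞'def, Ideal.span_le]
    rintro _ ⟨s, hs, rfl⟩
    exact hxf𝔞 s (hSker s hs)
  obtain ⟨T, hTdef⟩ : ∃ T : Ideal P,
      T = 𝔞' ⊔ ((Ideal.span {t}) ^ k).map (algebraMap R P) := ⟨_, rfl⟩
  have hkey : ∀ f ∈ Ideal.span (↑S : Set C₀), algebraMap C₀ P f ∈ T := by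
    intro f hf
    induction hf using Submodule.span_induction with
    | mem s hs =>
      have h1 : algebraMap C₀ P s = xf s + (algebraMap C₀ P s - xf s) := by ring
      rw [h1, hTdef]
      refine Ideal.add_mem _ (Ideal.mem_sup_left ?_) (Ideal.mem_sup_right (hxfsub s (hSker s hs)))
      rw [h𝔞'def]
      exact Ideal.subset_span ⟨s, hs, rfl⟩
    | zero => rw [map_zero]; exact zero_mem _
    | add x y _ _ hx hy => rw [map_add]; exact Ideal.add_mem _ hx hy
    | smul h x _ hx => rw [smul_eq_mul, map_mul]; exact Ideal.mul_mem_left _ _ hx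
  haveI hcompl : IsAdicComplete (Ideal.span {τ}) P := by
    rw [hτ]; exact P_complete R t d _ (hJ_of R t d)
  have hincl : 𝔞 ≤ 𝔞' ⊔ (Ideal.span {τ}) • 𝔞 := by
    intro x hx
    obtain ⟨f, hf⟩ := CT.exists_sub_mem _ hJfg x k
    rw [pow_map] at hf
    have hfker : f ∈ RingHom.ker (rho R (Ideal.span {t}) d A φ k).toRingHom := by
      rw [RingHom.mem_ker]
      change rho R (Ideal.span {t}) d A φ k f = 0
      rw [rho_apply, Ideal.Quotient.eq_zero_iff_mem, ← phi_map R (Ideal.span {t}) d A φ k,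
        Ideal.mem_map_iff_of_surjective φ.toRingHom hφ]
      refine ⟨algebraMap C₀ P f - x, ?_, ?_⟩
      · have := Ideal.neg_mem_iff _ |>.mpr hf
        rwa [neg_sub] at this
      · rw [map_sub]
        have : φ.toRingHom x = 0 := (h𝔞mem x).mp hx
        rw [this, sub_zero]
        rfl
    have hιT : algebraMap C₀ P f ∈ T := hkey f (hS.symm ▸ hfker)
    have hxT : x ∈ T := by
      have h1 : x = algebraMap C₀ P f + (x - algebraMap C₀ P f) := by ring
      rw [h1]
      refine Ideal.add_mem _ hιT ?_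
      rw [hTdef]
      exact Ideal.mem_sup_right hf
    rw [hTdef] at hxT
    obtain ⟨a', ha', r, hr, hsum⟩ := Submodule.mem_sup.mp hxT
    rw [hpowk, Ideal.mem_span_singleton'] at hr
    obtain ⟨y, hy⟩ := hr
    have hr𝔞 : r ∈ 𝔞 := by
      have : r = x - a' := by rw [← hsum]; ring
      rw [this]
      exact 𝔞.sub_mem hx (h𝔞'le ha')
    obtain ⟨z, hz, hzeq⟩ := hn₀ 1 r hr𝔞 ⟨y, by
      rw [← hk, ← hτ, smul_eq_mul, ← hy, mul_comm]⟩
    rw [← hsum, hzeq, pow_one, ← hτ]
    refine Submodule.add_mem _ (Submodule.mem_sup_left ha') (Submodule.mem_sup_right ?_)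
    exact Submodule.smul_mem_smul (Ideal.mem_span_singleton_self τ) hz
  haveI : IsHausdorff (Ideal.span {τ}) P := hcompl.toIsHausdorff
  have := submodule_eq_of_le_sup_smul (Ideal.span {τ}) 𝔞 𝔞' h𝔞'fg h𝔞'le hincl
  rw [← h𝔞, this]
  exact h𝔞'fg

end V

theorem topFiniteType_of_trunc' (R : Type u) [CommRing R] (I : Ideal R) (hI : I.FG)
    (A : Type u) [CommRing A] [Algebra R A] [IsAdicComplete (I.map (algebraMap R A)) A]
    (k : ℕ) (hk : k = 1)
    (h0 : Algebra.FiniteType R (A ⧸ (I ^ k).map (algebraMap R A))) :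
    AdicRing.TopFiniteType R I A := by
  subst hk
  exact topFiniteType_of_trunc R I hI A h0

/-- S11530 -/
theorem s11530 (R : Type u) [CommRing R] (I : Ideal R) (hR : AdicRing.IsBase R I)
    (A : Type u) [CommRing A] [Algebra R A] [IsAdicComplete (I.map (algebraMap R A)) A] :
    AdicRing.TopFinitePresentation R I A ↔
      ∀ n : ℕ, (Ideal.quotientMap ((I ^ (n + 1)).map (algebraMap R A)) (algebraMap R A)
        Ideal.le_comap_map).FinitePresentation := by
  have hI : I.FG := by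
    obtain ⟨-, ⟨hN, -⟩ | ⟨-, -, -, t, -, rfl⟩⟩ := hR
    · exact IsNoetherian.noetherian I
    · exact ⟨{t}, by simp⟩
  constructor
  · intro hA n
    exact s11530_mp R I hI A hA (n + 1)
  · intro h
    have h0 : Algebra.FiniteType R (A ⧸ (I ^ (0 + 1)).map (algebraMap R A)) := by
      have h1 := (RingHom.FiniteType.of_finitePresentation (h 0)).comp
        (RingHom.FiniteType.of_surjective (Ideal.Quotient.mk (I ^ (0 + 1)))
          Ideal.Quotient.mk_surjective)
      rw [quotientMap_comp_mk, RingHom.finiteType_algebraMap] at h1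
      exact h1
    obtain ⟨d, φ, hφ⟩ := topFiniteType_of_trunc' R I hI A (0 + 1) rfl h0
    refine ⟨d, φ, hφ, ?_⟩
    obtain ⟨hc, ⟨hN, -⟩ | ⟨hdom, hpre, hdim, t, ht, rfl⟩⟩ := hR
    · haveI := hN
      haveI : IsNoetherianRing (RPow R I d) := Groth.Agent.S0543.result _ _
      exact IsNoetherian.noetherian _
    · haveI := hdom
      haveI : ValuationRing R := { toPreValuationRing := hpre }
      haveI := hdim
      haveI := hc
      refine ker_fg_of_trunc R t ht d A φ hφ ?_
      intro k hk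
      obtain ⟨e, rfl⟩ := Nat.exists_eq_add_of_le' hk
      have h2 : (Ideal.Quotient.mk ((Ideal.span {t}) ^ (e + 1))).FinitePresentation := by
        refine RingHom.FinitePresentation.of_surjective _ Ideal.Quotient.mk_surjective ?_
        rw [Ideal.mk_ker, Ideal.span_singleton_pow]
        exact ⟨{t ^ (e + 1)}, by simp⟩
      have h3 := (h e).comp h2
      rw [quotientMap_comp_mk, RingHom.finitePresentation_algebraMap] at h3
      exact h3

end Groth.Agent.H8.RGV
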