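import Groth.Agent.Lib.Helper8.RGV.Groebner
import Groth.Agent.Lib.Helper8.RigPt.Basic
import Groth.Agent.Lib.Helper9.Misc.RPowFlat

/-!
# helper8: finite torsion-free modules over `R⟨ζ⟩` are finitely presented
(`R` a complete valuation ring of height one)
-/

set_option autoImplicit false
universe u

open MvPolynomial IsLocalRing

namespace Groth.Agent.H8.RGV

/-- complete Nakayama for submodules: if `K₀ ≤ K`, `K₀` is finitely generated and
`K ≤ K₀ + 𝔞 K` inside a Hausdorff module over an `𝔞`-adically complete ring then `K = K₀`. -/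
theorem submodule_eq_of_le_sup_smul {A : Type*} [CommRing A] (𝔞 : Ideal A) [IsAdicComplete 𝔞 A]
    {F : Type*} [AddCommGroup F] [Module A F] [IsHausdorff 𝔞 F]
    (K K₀ : Submodule A F) (hK₀ : K₀.FG) (hle : K₀ ≤ K) (h : K ≤ K₀ ⊔ 𝔞 • K) : K = K₀ := by
  classical
  obtain ⟨s, hs⟩ := hK₀
  have hsK : ∀ i : s, (i : F) ∈ K := fun i => hle (hs ▸ Submodule.subset_span i.2)
  obtain ⟨k, hk⟩ : ∃ k : s → K, k = fun i => ⟨(i : F), hsK i⟩ := ⟨_, rfl⟩
  have hmap : ∀ n : ℕ, Submodule.map K.subtype (𝔞 ^ n • (⊤ : Submodule A K)) = 𝔞 ^ n • K := by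
    intro n
    rw [Submodule.map_smul'', Submodule.map_subtype_top]
  haveI : IsHausdorff 𝔞 K := by
    refine ⟨fun x hx => ?_⟩
    apply Subtype.ext
    rw [ZeroMemClass.coe_zero]
    refine IsHausdorff.haus' (I := 𝔞) _ fun n => ?_
    have h1 := hx n
    rw [SModEq.zero] at h1 ⊢
    have h2 : (x : F) ∈ Submodule.map K.subtype (𝔞 ^ n • (⊤ : Submodule A K)) :=
      ⟨x, h1, rfl⟩
    rw [hmap] at h2
    exact Submodule.smul_mono le_rfl le_top h2
  haveI : IsPrecomplete 𝔞 (s → A) :=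
    (RigPt.isAdicComplete_of_basis (Pi.basisFun A s) 𝔞).toIsPrecomplete
  have hsum : ∀ c : s → A,
      ((Fintype.linearCombination A k c : K) : F) = ∑ i, c i • (i : F) := by
    intro c
    rw [Fintype.linearCombination_apply]
    have : (K.subtype) (∑ i, c i • k i) = ∑ i, c i • (i : F) := by
      rw [map_sum]
      refine Finset.sum_congr rfl fun i _ => ?_
      rw [map_smul, hk]
      rfl
    exact this
  have hsurj : Function.Surjective
      ((𝔞 • ⊤ : Submodule A K).mkQ ∘ₗ Fintype.linearCombination A k) := by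
    intro z
    obtain ⟨x, rfl⟩ := Submodule.mkQ_surjective _ z
    obtain ⟨y, hy, z, hz, hyz⟩ := Submodule.mem_sup.mp (h x.2)
    rw [← hs, ← Subtype.range_coe (s := (s : Set F))] at hy
    obtain ⟨c, hc⟩ := (Submodule.mem_span_range_iff_exists_fun A).mp hy
    have hz' : z ∈ Submodule.map K.subtype (𝔞 ^ 1 • (⊤ : Submodule A K)) := by
      rw [hmap, pow_one]; exact hz
    obtain ⟨w, hw, hwz⟩ := hz'
    have hwz' : (w : F) = z := hwz
    rw [pow_one] at hw
    refine ⟨c, ?_⟩
    rw [LinearMap.comp_apply, Submodule.mkQ_apply, Submodule.mkQ_apply, eq_comm,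
      Submodule.Quotient.eq]
    have : x - Fintype.linearCombination A k c = w := by
      apply Subtype.ext
      rw [AddSubgroupClass.coe_sub, hsum, hwz', ← hyz, ← hc]
      exact add_sub_cancel_left _ _
    rw [this]
    exact hw
  have hF := surjective_of_mkQ_comp_surjective hsurj
  apply le_antisymm _ hle
  intro x hx
  obtain ⟨c, hc⟩ := hF ⟨x, hx⟩
  have h1 : x = ∑ i, c i • (i : F) := by
    have h0 : ((Fintype.linearCombination A k c : K) : F) = x := congrArg Subtype.val hc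
    rw [hsum] at h0
    exact h0.symm
  rw [h1, ← hs]
  exact Submodule.sum_mem _ fun i _ => Submodule.smul_mem _ _ (Submodule.subset_span i.2)

section V

variable (R : Type u) [CommRing R] [IsDomain R] [ValuationRing R] [Ring.KrullDimLE 1 R]

theorem exists_dvd_pow (a : R) (ha : a ≠ 0) (c : R) (hc : c ∈ maximalIdeal R) :
    ∃ K : ℕ, a ∣ c ^ K := by
  have hmem : c ∈ (Ideal.span {a}).radical := by
    rw [Ideal.radical_eq_sInf, Ideal.mem_sInf]
    rintro p ⟨hle, hp⟩
    have hne : p ≠ ⊥ := by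
      rintro rfl
      exact ha (by simpa using hle (Ideal.mem_span_singleton_self a))
    rw [IsLocalRing.eq_maximalIdeal (hp.isMaximal_of_ne_bot hne)]
    exact hc
  obtain ⟨K, hK⟩ := hmem
  exact ⟨K, Ideal.mem_span_singleton.mp hK⟩

variable (t : R) (ht : t ≠ 0) [IsAdicComplete (Ideal.span {t}) R]

include ht in
theorem t_mem : t ∈ maximalIdeal R := by
  have h1 : Ideal.span {t} ≤ Ideal.jacobson (⊥ : Ideal R) := IsAdicComplete.le_jacobson_bot _
  rw [IsLocalRing.jacobson_eq_maximalIdeal (⊥ : Ideal R) bot_ne_top] at h1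
  exact h1 (Ideal.mem_span_singleton_self t)

variable (n : ℕ) (J : Ideal (MvPolynomial (Fin n) R))
  (hJ : J = Ideal.span {(C t : MvPolynomial (Fin n) R)})

local notation "C₀" => MvPolynomial (Fin n) R
local notation "P" => AdicCompletion J (MvPolynomial (Fin n) R)

include ht hJ in
theorem P_tf (a : R) (ha : a ≠ 0) (x : P) (hx : algebraMap C₀ P (C a) * x = 0) : x = 0 := by
  obtain ⟨K, b, hb⟩ := exists_dvd_pow R a ha t (t_mem R t ht)
  have hCt : (C t : C₀) ∈ nonZeroDivisors C₀ :=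
    mem_nonZeroDivisors_of_ne_zero (by rw [Ne, C_eq_zero]; exact ht)
  refine Groth.Agent.H9.RPowFlat.eq_zero_of_pow_smul' (C t) hCt J hJ K x ?_
  rw [Algebra.smul_def, ← map_pow C, hb, map_mul C, map_mul, mul_comm (algebraMap C₀ P (C a)),
    mul_assoc, hx, mul_zero]

include hJ in
theorem P_complete : IsAdicComplete (Ideal.span {algebraMap C₀ P (C t)}) P := by
  have hJfg : J.FG := by rw [hJ]; exact ⟨{C t}, by simp⟩
  have h1 := CT.isAdicComplete_map J hJfg
  have h2 : J.map (algebraMap C₀ P) = Ideal.span {algebraMap C₀ P (C t)} := by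
    rw [hJ, Ideal.map_span, Set.image_singleton]
  rwa [h2] at h1

set_option maxHeartbeats 1600000 in
include ht hJ in
/-- Raynaud–Gruson for restricted power series over a complete valuation ring of height one:
a finite module over `R⟨ζ⟩` without `t`-torsion is finitely presented. -/
theorem fp_of_torsionFree (Q : Type u) [AddCommGroup Q] [Module P Q] [Module.Finite P Q]
    (htf : ∀ x : Q, (algebraMap C₀ P (C t)) • x = 0 → x = 0) :
    Module.FinitePresentation P Q := by
  classical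
  obtain ⟨ι, hι⟩ : ∃ ι : C₀ →+* P, ι = algebraMap C₀ P := ⟨_, rfl⟩
  obtain ⟨τ, hτ⟩ : ∃ τ : P, τ = ι (C t) := ⟨_, rfl⟩
  rw [← hι, ← hτ] at htf
  have hdens : ∀ a : P, ∃ (p : C₀) (a' : P), a = ι p + τ * a' := by
    intro a
    obtain ⟨p, a', h⟩ := RigPt.exists_eq_add_mul (C t) J hJ a
    exact ⟨p, a', by rw [hτ, hι]; exact h⟩
  haveI hcompl : IsAdicComplete (Ideal.span {τ}) P := by
    rw [hτ, hι]; exact P_complete R t n J hJ
  haveI hHaus : ∀ k : ℕ, IsHausdorff (Ideal.span {τ}) (Fin k → P) := fun k =>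
    (RigPt.isAdicComplete_of_basis (Pi.basisFun P (Fin k)) (Ideal.span {τ})).toIsHausdorff
  have htfpow : ∀ (K : ℕ) (x : Q), τ ^ K • x = 0 → x = 0 := by
    intro K
    induction K with
    | zero => intro x hx; rwa [pow_zero, one_smul] at hx
    | succ K ih =>
      intro x hx
      rw [pow_succ, mul_smul] at hx
      exact htf x (ih _ hx)
  have hQtf : ∀ a : R, a ≠ 0 → ∀ y : Q, ι (C a) • y = 0 → y = 0 := by
    intro a ha y hy
    obtain ⟨K, b, hb⟩ := exists_dvd_pow R a ha t (t_mem R t ht)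
    apply htfpow K
    rw [hτ, ← map_pow, ← map_pow C, hb, mul_comm, map_mul C, map_mul, mul_smul, hy, smul_zero]
  -- generators
  obtain ⟨k, q, hq⟩ := Module.Finite.exists_fin (R := P) (M := Q)
  obtain ⟨π, hπdef⟩ : ∃ π : (Fin k → P) →ₗ[P] Q, π = Fintype.linearCombination P q := ⟨_, rfl⟩
  have hπ : ∀ x : Fin k → P, π x = ∑ j, x j • q j := by
    intro x; rw [hπdef, Fintype.linearCombination_apply]
  have hπsurj : Function.Surjective π := by
    rw [← LinearMap.range_eq_top, hπdef, Fintype.range_linearCombination, hq]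
  suffices hker : (LinearMap.ker π).FG from Module.finitePresentation_of_surjective π hπsurj hker
  -- the square-zero extension
  obtain ⟨θ, hθX, hθY⟩ : ∃ θ : MvPolynomial (Fin (n + k)) R →ₐ[R]
      TrivSqZeroExt C₀ (Fin k → C₀),
      (∀ i, θ (X (Fin.castAdd k i)) = TrivSqZeroExt.inl (X i)) ∧
      (∀ j, θ (X (Fin.natAdd n j)) = TrivSqZeroExt.inr (Pi.single j 1)) :=
    ⟨aeval (Fin.append (fun i => TrivSqZeroExt.inl (X i))
      (fun j => TrivSqZeroExt.inr (Pi.single j 1))),
      fun i => by rw [aeval_X, Fin.append_left], fun j => by rw [aeval_X, Fin.append_right]⟩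
  have hθemb : ∀ f : C₀, θ (rename (Fin.castAdd k) f) = TrivSqZeroExt.inl f := by
    have h0 : (θ.comp (rename (Fin.castAdd k))) =
        TrivSqZeroExt.inlAlgHom R C₀ (Fin k → C₀) := by
      refine MvPolynomial.algHom_ext fun i => ?_
      rw [AlgHom.comp_apply, rename_X, hθX]
      rfl
    intro f
    exact AlgHom.congr_fun h0 f
  have hθlin : ∀ (h₀ : C₀) (hv : Fin k → C₀),
      θ (rename (Fin.castAdd k) h₀ + ∑ j, rename (Fin.castAdd k) (hv j) * X (Fin.natAdd n j)) =
        TrivSqZeroExt.inl h₀ + TrivSqZeroExt.inr hv := by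
    intro h₀ hv
    rw [map_add, map_sum, hθemb]
    congr 1
    simp_rw [map_mul, hθemb, hθY, TrivSqZeroExt.inl_mul_inr]
    rw [← TrivSqZeroExt.inr_sum]
    congr 1
    ext j'
    rw [Finset.sum_apply]
    simp [Pi.single_apply]
  -- the submodule of relations modulo `t`
  obtain ⟨N₀, hN₀⟩ : ∃ N₀ : Submodule C₀ (Fin k → C₀),
      ∀ f, f ∈ N₀ ↔ ∃ y : Q, ∑ j, ι (f j) • q j = τ • y := by
    refine ⟨{ carrier := {f | ∃ y : Q, ∑ j, ι (f j) • q j = τ • y}
              add_mem' := ?_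
              zero_mem' := ?_
              smul_mem' := ?_ }, fun f => Iff.rfl⟩
    · rintro f g ⟨y₁, h₁⟩ ⟨y₂, h₂⟩
      refine ⟨y₁ + y₂, ?_⟩
      simp only [Pi.add_apply, map_add, add_smul, Finset.sum_add_distrib]
      rw [h₁, h₂, smul_add]
    · exact ⟨0, by simp⟩
    · rintro c f ⟨y, hy⟩
      refine ⟨ι c • y, ?_⟩
      simp only [Pi.smul_apply, smul_eq_mul, map_mul, mul_smul]
      rw [← Finset.smul_sum, hy, smul_comm]
  have hN₀t : ∀ f : Fin k → C₀, (C t : C₀) • f ∈ N₀ := by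
    intro f
    rw [hN₀]
    refine ⟨∑ j, ι (f j) • q j, ?_⟩
    simp only [Pi.smul_apply, smul_eq_mul, map_mul, mul_smul]
    rw [← Finset.smul_sum, hτ]
  obtain ⟨𝔄, h𝔄⟩ : ∃ 𝔄 : Ideal (TrivSqZeroExt C₀ (Fin k → C₀)),
      ∀ z, z ∈ 𝔄 ↔ z.fst ∈ Ideal.span {(C t : C₀)} ∧ z.snd ∈ N₀ := by
    refine ⟨{ carrier := {z | z.fst ∈ Ideal.span {(C t : C₀)} ∧ z.snd ∈ N₀}
              add_mem' := ?_
              zero_mem' := ?_
              smul_mem' := ?_ }, fun z => Iff.rfl⟩
    · rintro a b ⟨ha1, ha2⟩ ⟨hb1, hb2⟩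
      exact ⟨by rw [TrivSqZeroExt.fst_add]; exact Ideal.add_mem _ ha1 hb1,
        by rw [TrivSqZeroExt.snd_add]; exact N₀.add_mem ha2 hb2⟩
    · exact ⟨by rw [TrivSqZeroExt.fst_zero]; exact zero_mem _,
        by rw [TrivSqZeroExt.snd_zero]; exact N₀.zero_mem⟩
    · rintro b z ⟨hz1, hz2⟩
      refine ⟨?_, ?_⟩
      · rw [smul_eq_mul, TrivSqZeroExt.fst_mul]
        exact Ideal.mul_mem_left _ _ hz1
      · rw [smul_eq_mul, TrivSqZeroExt.snd_mul, op_smul_eq_smul]
        refine N₀.add_mem (N₀.smul_mem _ hz2) ?_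
        obtain ⟨c₁, hc₁⟩ := Ideal.mem_span_singleton'.mp hz1
        rw [← hc₁, mul_comm, mul_smul]
        exact hN₀t _
  -- the ideal is finitely generated
  have hfg𝔞 : (Ideal.comap θ 𝔄).FG := by
    refine gb_gen R t (fun c hc => exists_dvd_pow R t ht c hc) (n + k) MonomialOrder.lex
      (Ideal.comap θ 𝔄) ?_ ?_
    · rw [Ideal.mem_comap, h𝔄]
      have h0 : θ (C t) = TrivSqZeroExt.inl (C t) := by
        have := θ.commutes t
        rw [MvPolynomial.algebraMap_eq] at this
        rw [this, TrivSqZeroExt.algebraMap_eq_inl', MvPolynomial.algebraMap_eq]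
      rw [h0, TrivSqZeroExt.fst_inl, TrivSqZeroExt.snd_inl]
      exact ⟨Ideal.mem_span_singleton_self _, N₀.zero_mem⟩
    · intro a c' u hac hu
      have ha0 : a ≠ 0 := by
        rintro rfl
        rw [zero_mul] at hac
        exact ht hac.symm
      rw [Ideal.mem_comap, h𝔄, C_mul', map_smul, TrivSqZeroExt.fst_smul,
        TrivSqZeroExt.snd_smul] at hu
      obtain ⟨hu1, hu2⟩ := hu
      obtain ⟨z, hz⟩ := Ideal.mem_span_singleton'.mp hu1
      have hfst : (θ u).fst = C c' * z := by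
        have hCa : (C a : C₀) ≠ 0 := by rw [Ne, C_eq_zero]; exact ha0
        apply mul_left_cancel₀ hCa
        rw [← smul_eq_C_mul, ← hz, ← hac, C_mul]
        ring
      obtain ⟨y, hy⟩ := (hN₀ _).mp hu2
      have hy2 : ∑ j, ι ((θ u).snd j) • q j = ι (C c') • y := by
        have h3 : ι (C a) • (∑ j, ι ((θ u).snd j) • q j - ι (C c') • y) = 0 := by
          rw [smul_sub, sub_eq_zero, Finset.smul_sum]
          have h4 : τ = ι (C a) * ι (C c') := by rw [hτ, ← hac, C_mul, map_mul]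
          rw [← mul_smul, ← h4, ← hy]
          refine Finset.sum_congr rfl fun j _ => ?_
          rw [Pi.smul_apply, smul_eq_C_mul, map_mul, mul_smul]
        exact sub_eq_zero.mp (hQtf a ha0 _ h3)
      obtain ⟨p, rfl⟩ := hπsurj y
      choose hh p' hp' using fun j => hdens (p j)
      refine ⟨rename (Fin.castAdd k) z +
        ∑ j, rename (Fin.castAdd k) (hh j) * X (Fin.natAdd n j), ?_⟩
      rw [Ideal.mem_comap, h𝔄, map_sub, C_mul', map_smul, hθlin]
      refine ⟨?_, ?_⟩
      · rw [TrivSqZeroExt.fst_sub, TrivSqZeroExt.fst_smul, TrivSqZeroExt.fst_add,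
          TrivSqZeroExt.fst_inl, TrivSqZeroExt.fst_inr, add_zero, hfst, smul_eq_C_mul, sub_self]
        exact zero_mem _
      · rw [TrivSqZeroExt.snd_sub, TrivSqZeroExt.snd_smul, TrivSqZeroExt.snd_add,
          TrivSqZeroExt.snd_inl, TrivSqZeroExt.snd_inr, zero_add, hN₀]
        refine ⟨ι (C c') • ∑ j, p' j • q j, ?_⟩
        have h5 : ∑ j, ι (((θ u).snd - c' • hh) j) • q j =
            ∑ j, ι ((θ u).snd j) • q j - ι (C c') • ∑ j, ι (hh j) • q j := by
          rw [Finset.smul_sum, ← Finset.sum_sub_distrib]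
          refine Finset.sum_congr rfl fun j _ => ?_
          rw [Pi.sub_apply, Pi.smul_apply, smul_eq_C_mul, map_sub, map_mul, sub_smul, mul_smul]
        have h6 : π p = ∑ j, ι (hh j) • q j + τ • ∑ j, p' j • q j := by
          rw [hπ, Finset.smul_sum, ← Finset.sum_add_distrib]
          refine Finset.sum_congr rfl fun j _ => ?_
          rw [hp' j, add_smul, mul_smul]
        rw [h5, hy2, h6, smul_add, add_sub_cancel_left, smul_comm]
  -- extraction of generators of the kernel
  obtain ⟨S, hS⟩ := hfg𝔞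
  have hx' : ∀ G, G ∈ Ideal.comap θ 𝔄 → ∃ x' : Fin k → P, x' ∈ LinearMap.ker π ∧
      ∃ p : Fin k → P, (fun j => ι ((θ G).snd j)) = x' + τ • p := by
    intro G hG
    obtain ⟨y, hy⟩ := (hN₀ _).mp ((h𝔄 _).mp hG).2
    obtain ⟨p, rfl⟩ := hπsurj y
    refine ⟨(fun j => ι ((θ G).snd j)) - τ • p, ?_, p, by rw [sub_add_cancel]⟩
    rw [LinearMap.mem_ker, map_sub, map_smul, hπ, sub_eq_zero]
    exact hy
  choose! xf hxfker hxfeq using hx'
  obtain ⟨N', hN'def⟩ : ∃ N' : Submodule P (Fin k → P),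
      N' = Submodule.span P (xf '' (↑S : Set (MvPolynomial (Fin (n + k)) R))) := ⟨_, rfl⟩
  have hN'fg : N'.FG := by
    rw [hN'def]; exact Submodule.fg_span (S.finite_toSet.image _)
  have hSmem : ∀ G ∈ S, G ∈ Ideal.comap θ 𝔄 := fun G hG => hS ▸ Ideal.subset_span hG
  have hN'le : N' ≤ LinearMap.ker π := by
    rw [hN'def, Submodule.span_le]
    rintro _ ⟨G, hG, rfl⟩
    exact hxfker G (hSmem G hG)
  obtain ⟨T, hTdef⟩ : ∃ T : Submodule P (Fin k → P),
      T = N' ⊔ (Ideal.span {τ}) • (⊤ : Submodule P (Fin k → P)) := ⟨_, rfl⟩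
  have hτT : ∀ r : Fin k → P, τ • r ∈ T := by
    intro r
    rw [hTdef]
    exact Submodule.mem_sup_right
      (Submodule.smul_mem_smul (Ideal.mem_span_singleton_self τ) Submodule.mem_top)
  obtain ⟨M₀, hM₀⟩ : ∃ M₀ : Submodule C₀ (Fin k → C₀),
      ∀ v, v ∈ M₀ ↔ (fun j => ι (v j)) ∈ T := by
    refine ⟨{ carrier := {v | (fun j => ι (v j)) ∈ T}
              add_mem' := ?_
              zero_mem' := ?_
              smul_mem' := ?_ }, fun v => Iff.rfl⟩
    · intro v w hv hw
      have : (fun j => ι ((v + w) j)) = (fun j => ι (v j)) + (fun j => ι (w j)) := by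
        ext j; simp
      rw [Set.mem_setOf_eq, this]
      exact T.add_mem hv hw
    · have : (fun j => ι ((0 : Fin k → C₀) j)) = (0 : Fin k → P) := by
        ext j; simp
      rw [Set.mem_setOf_eq, this]
      exact T.zero_mem
    · intro c v hv
      have : (fun j => ι ((c • v) j)) = ι c • (fun j => ι (v j)) := by
        ext j; simp
      rw [Set.mem_setOf_eq, this]
      exact T.smul_mem _ hv
  have hM₀G : ∀ G ∈ S, (θ G).snd ∈ M₀ := by
    intro G hG
    rw [hM₀]
    obtain ⟨p, hp⟩ := hxfeq G (hSmem G hG)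
    rw [hp]
    refine T.add_mem ?_ (hτT p)
    rw [hTdef, hN'def]
    exact Submodule.mem_sup_left (Submodule.subset_span ⟨G, hG, rfl⟩)
  have hM₀t : ∀ v : Fin k → C₀, (C t : C₀) • v ∈ M₀ := by
    intro v
    rw [hM₀]
    have : (fun j => ι (((C t : C₀) • v) j)) = τ • (fun j => ι (v j)) := by
      ext j; simp [hτ]
    rw [this]
    exact hτT _
  have hkey : ∀ F ∈ Ideal.span (↑S : Set (MvPolynomial (Fin (n + k)) R)), (θ F).snd ∈ M₀ := by
    intro F hF
    induction hF using Submodule.span_induction with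
    | mem G hG => exact hM₀G G hG
    | zero => rw [map_zero, TrivSqZeroExt.snd_zero]; exact M₀.zero_mem
    | add x y _ _ hx hy => rw [map_add, TrivSqZeroExt.snd_add]; exact M₀.add_mem hx hy
    | smul H x hxmem hx =>
      rw [smul_eq_mul, map_mul, TrivSqZeroExt.snd_mul, op_smul_eq_smul]
      refine M₀.add_mem (M₀.smul_mem _ hx) ?_
      have hx𝔞 : x ∈ Ideal.comap θ 𝔄 := hS ▸ hxmem
      obtain ⟨c₁, hc₁⟩ := Ideal.mem_span_singleton'.mp ((h𝔄 _).mp hx𝔞).1
      rw [← hc₁, mul_comm, mul_smul]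
      exact hM₀t _
  have hincl : LinearMap.ker π ≤ N' ⊔ (Ideal.span {τ}) • LinearMap.ker π := by
    intro x hx
    rw [LinearMap.mem_ker] at hx
    choose f p hfp using fun j => hdens (x j)
    have hxeq : x = (fun j => ι (f j)) + τ • p := by
      funext j
      rw [Pi.add_apply, Pi.smul_apply, smul_eq_mul]
      exact hfp j
    have hθF : θ (∑ j, rename (Fin.castAdd k) (f j) * X (Fin.natAdd n j)) =
        TrivSqZeroExt.inr f := by
      have := hθlin 0 f
      rwa [map_zero, zero_add, TrivSqZeroExt.inl_zero, zero_add] at this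
    have hF𝔞 : (∑ j, rename (Fin.castAdd k) (f j) * X (Fin.natAdd n j)) ∈
        Ideal.comap θ 𝔄 := by
      rw [Ideal.mem_comap, h𝔄, hθF, TrivSqZeroExt.fst_inr, TrivSqZeroExt.snd_inr, hN₀]
      refine ⟨zero_mem _, -(π p), ?_⟩
      have h7 : π x = ∑ j, ι (f j) • q j + τ • π p := by
        rw [hπ, hπ, Finset.smul_sum, ← Finset.sum_add_distrib]
        refine Finset.sum_congr rfl fun j _ => ?_
        rw [hfp j, add_smul, mul_smul]
      rw [hx] at h7
      rw [smul_neg, eq_neg_iff_add_eq_zero]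
      exact h7.symm
    have hfM₀ : f ∈ M₀ := by
      have := hkey _ (hS.symm ▸ hF𝔞)
      rwa [hθF, TrivSqZeroExt.snd_inr] at this
    have hxT : x ∈ T := by
      rw [hxeq]
      exact T.add_mem ((hM₀ f).mp hfM₀) (hτT p)
    rw [hTdef] at hxT
    obtain ⟨n', hn', r', hr', hsum⟩ := Submodule.mem_sup.mp hxT
    rw [Submodule.ideal_span_singleton_smul, Submodule.mem_smul_pointwise_iff_exists] at hr'
    obtain ⟨r, -, rfl⟩ := hr'
    have hrker : r ∈ LinearMap.ker π := by
      rw [LinearMap.mem_ker]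
      apply htf
      rw [← map_smul]
      have : τ • r = x - n' := by rw [← hsum]; abel
      rw [this, map_sub, hx, LinearMap.mem_ker.mp (hN'le hn'), sub_zero]
    rw [← hsum]
    exact Submodule.add_mem _ (Submodule.mem_sup_left hn')
      (Submodule.mem_sup_right
        (Submodule.smul_mem_smul (Ideal.mem_span_singleton_self τ) hrker))
  have := submodule_eq_of_le_sup_smul (Ideal.span {τ}) (LinearMap.ker π) N' hN'fg hN'le hincl
  rw [this]
  exact hN'fg

end V

end Groth.Agent.H8.RGV
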