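import Groth.Agent.Lib.Helper8.RGV.Final

/-!
# helper8: topological finite presentation and the truncations `A / I^(n+1) A`
-/

set_option autoImplicit false
universe u

open MvPolynomial IsLocalRing AdicRing

namespace Groth.Agent.H8.RGV

theorem fg_comap_of_surjective {R S : Type*} [CommRing R] [CommRing S] (f : R →+* S)
    (hf : Function.Surjective f) (hker : (RingHom.ker f).FG) (I : Ideal S) (hI : I.FG) :
    (I.comap f).FG := by
  classical
  obtain ⟨T, hT⟩ := hI
  choose lift hlift using hf
  have h2 : Ideal.map f (Ideal.span (lift '' (↑T : Set S))) = I := by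
    rw [Ideal.map_span, Set.image_image, ← hT]
    congr 1
    ext x
    simp [hlift]
  have h3 : I.comap f = Ideal.span (lift '' (↑T : Set S)) ⊔ RingHom.ker f := by
    have hf' : Function.Surjective f := fun b => ⟨lift b, hlift b⟩
    rw [← h2, Ideal.comap_map_of_surjective _ hf']
    rfl
  rw [h3]
  exact Submodule.FG.sup (Submodule.fg_span (T.finite_toSet.image _)) hker

section Gen

variable (R : Type u) [CommRing R] (I : Ideal R) (d : ℕ) (A : Type u) [CommRing A] [Algebra R A]
  (φ : RPow R I d →ₐ[R] A) (hφ : Function.Surjective φ) (hI : I.FG) (k : ℕ)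

local notation "C₀" => MvPolynomial (Fin d) R
local notation "P" => RPow R I d

instance instTowerRPow : IsScalarTower R (MvPolynomial (Fin d) R) (RPow R I d) :=
  IsScalarTower.of_algebraMap_eq (fun _ => rfl)

/-- the truncation map `R[ζ] → A / I^k A` -/
noncomputable def rho : C₀ →ₐ[R] A ⧸ (I ^ k).map (algebraMap R A) :=
  (Ideal.Quotient.mkₐ R _).comp (φ.comp (IsScalarTower.toAlgHom R C₀ P))

theorem rho_apply (f : C₀) :
    rho R I d A φ k f = Ideal.Quotient.mk _ (φ (algebraMap C₀ P f)) := rfl

theorem pow_map : ((I.map (C : R →+* C₀)) ^ k).map (algebraMap C₀ P) =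
    (I ^ k).map (algebraMap R P) := by
  rw [← Ideal.map_pow, Ideal.map_map]
  rfl

theorem phi_map : Ideal.map φ.toRingHom ((I ^ k).map (algebraMap R P)) =
    (I ^ k).map (algebraMap R A) := by
  rw [Ideal.map_map]
  congr 1
  exact φ.comp_algebraMap

include hφ hI in
theorem rho_surjective : Function.Surjective (rho R I d A φ k) := by
  have hJfg : (I.map (C : R →+* C₀)).FG := hI.map _
  intro y
  obtain ⟨a, rfl⟩ := Ideal.Quotient.mk_surjective y
  obtain ⟨p, rfl⟩ := hφ a
  obtain ⟨f, hf⟩ := CT.exists_sub_mem _ hJfg p k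
  refine ⟨f, ?_⟩
  rw [rho_apply, eq_comm, Ideal.Quotient.eq, ← map_sub, ← phi_map R I d A φ k]
  rw [pow_map] at hf
  exact Ideal.mem_map_of_mem _ hf

include hφ hI in
theorem rho_ker_fg (hker : (RingHom.ker φ.toRingHom).FG) :
    (RingHom.ker (rho R I d A φ k).toRingHom).FG := by
  have hJfg : (I.map (C : R →+* C₀)).FG := hI.map _
  obtain ⟨E, hE⟩ : ∃ E : P →+* C₀ ⧸ (I.map (C : R →+* C₀)) ^ k,
      E = (AdicCompletion.evalₐ (I.map (C : R →+* C₀)) k : P →+* _) := ⟨_, rfl⟩
  have hEι : ∀ f : C₀, E (algebraMap C₀ P f) = Ideal.Quotient.mk _ f := by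
    intro f
    rw [hE]
    change (AdicCompletion.evalₐ (I.map (C : R →+* C₀)) k) (algebraMap C₀ P f) = _
    rw [AlgHom.commutes]
    rfl
  have hEker : RingHom.ker E = (I ^ k).map (algebraMap R P) := by
    rw [hE, CT.ker_evalₐ _ hJfg k, pow_map]
  have hEsurj : Function.Surjective E := by
    intro y
    obtain ⟨f, rfl⟩ := Ideal.Quotient.mk_surjective y
    exact ⟨_, hEι f⟩
  have hkey : RingHom.ker (rho R I d A φ k).toRingHom =
      Ideal.comap (Ideal.Quotient.mk ((I.map (C : R →+* C₀)) ^ k))
        (Ideal.map E (RingHom.ker φ.toRingHom)) := by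
    ext f
    rw [RingHom.mem_ker, Ideal.mem_comap, Ideal.mem_map_iff_of_surjective E hEsurj]
    change rho R I d A φ k f = 0 ↔ _
    rw [rho_apply, Ideal.Quotient.eq_zero_iff_mem, ← phi_map R I d A φ k,
      Ideal.mem_map_iff_of_surjective φ.toRingHom hφ]
    constructor
    · rintro ⟨r, hr, hrf⟩
      refine ⟨algebraMap C₀ P f - r, ?_, ?_⟩
      · rw [RingHom.mem_ker, map_sub, hrf]
        exact sub_self _
      · rw [map_sub, hEι, sub_eq_self, ← RingHom.mem_ker, hEker]
        exact hr
    · rintro ⟨x, hx, hxf⟩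
      refine ⟨algebraMap C₀ P f - x, ?_, ?_⟩
      · rw [← hEker, RingHom.mem_ker, map_sub, hEι, hxf, sub_self]
      · rw [map_sub, RingHom.mem_ker.mp hx, sub_zero]
        rfl
  rw [hkey]
  refine fg_comap_of_surjective _ Ideal.Quotient.mk_surjective ?_ _ (hker.map _)
  rw [Ideal.mk_ker]
  exact hJfg.pow

include hφ hI in
theorem trunc_fp (hker : (RingHom.ker φ.toRingHom).FG) :
    Algebra.FinitePresentation R (A ⧸ (I ^ k).map (algebraMap R A)) :=
  Algebra.FinitePresentation.of_surjective (rho_surjective R I d A φ hφ hI k)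
    (rho_ker_fg R I d A φ hφ hI k hker)

end Gen

/-- the composite `R → R/I^k → A/I^k A` is the algebra map -/
theorem quotientMap_comp_mk (R : Type u) [CommRing R] (I : Ideal R) (A : Type u) [CommRing A]
    [Algebra R A] (k : ℕ) :
    (Ideal.quotientMap ((I ^ k).map (algebraMap R A)) (algebraMap R A)
      Ideal.le_comap_map).comp (Ideal.Quotient.mk (I ^ k)) =
      algebraMap R (A ⧸ (I ^ k).map (algebraMap R A)) := by
  ext r
  rfl

theorem s11530_mp (R : Type u) [CommRing R] (I : Ideal R) (hI : I.FG)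
    (A : Type u) [CommRing A] [Algebra R A] (hA : AdicRing.TopFinitePresentation R I A) (k : ℕ) :
    (Ideal.quotientMap ((I ^ k).map (algebraMap R A)) (algebraMap R A)
      Ideal.le_comap_map).FinitePresentation := by
  obtain ⟨d, φ, hφ, hker⟩ := hA
  haveI := trunc_fp R I d A φ hφ hI k hker
  refine RingHom.FinitePresentation.of_comp_finiteType (Ideal.Quotient.mk (I ^ k)) ?_
    (RingHom.FiniteType.of_surjective _ Ideal.Quotient.mk_surjective)
  rw [quotientMap_comp_mk, RingHom.finitePresentation_algebraMap]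
  infer_instance

/-- a complete algebra whose reduction modulo `I` is of finite type is topologically of finite
type -/
theorem topFiniteType_of_trunc (R : Type u) [CommRing R] (I : Ideal R) (hI : I.FG)
    (A : Type u) [CommRing A] [Algebra R A] [IsAdicComplete (I.map (algebraMap R A)) A]
    (h0 : Algebra.FiniteType R (A ⧸ (I ^ 1).map (algebraMap R A))) :
    AdicRing.TopFiniteType R I A := by
  obtain ⟨d, f, hf⟩ := Algebra.FiniteType.iff_quotient_mvPolynomial''.mp h0
  have hlift : ∀ i : Fin d, ∃ a : A, Ideal.Quotient.mk ((I ^ 1).map (algebraMap R A)) a = f (X i) :=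
    fun i => Ideal.Quotient.mk_surjective _
  choose a ha using hlift
  obtain ⟨θ, hθ⟩ : ∃ θ : MvPolynomial (Fin d) R →ₐ[R] A, θ = aeval a := ⟨_, rfl⟩
  have hθf : ∀ g : MvPolynomial (Fin d) R,
      Ideal.Quotient.mk ((I ^ 1).map (algebraMap R A)) (θ g) = f g := by
    have h1 : (Ideal.Quotient.mkₐ R ((I ^ 1).map (algebraMap R A))).comp θ = f := by
      refine MvPolynomial.algHom_ext fun i => ?_
      rw [AlgHom.comp_apply, hθ, aeval_X]
      exact ha i
    intro g
    exact AlgHom.congr_fun h1 g
  have hJfg : (I.map (C : R →+* MvPolynomial (Fin d) R)).FG := hI.map _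
  letI : Algebra (MvPolynomial (Fin d) R) A := θ.toRingHom.toAlgebra
  haveI : IsScalarTower R (MvPolynomial (Fin d) R) A :=
    IsScalarTower.of_algebraMap_eq (fun r => (θ.commutes r).symm)
  have hmap : (I.map (C : R →+* MvPolynomial (Fin d) R)).map
      (algebraMap (MvPolynomial (Fin d) R) A) = I.map (algebraMap R A) := by
    rw [Ideal.map_map]
    congr 1
    exact θ.comp_algebraMap
  haveI : IsAdicComplete ((I.map (C : R →+* MvPolynomial (Fin d) R)).map
      (algebraMap (MvPolynomial (Fin d) R) A)) A := by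
    rw [hmap]; infer_instance
  obtain ⟨φ₀, hφ₀⟩ : ∃ φ₀ : RPow R I d →ₐ[MvPolynomial (Fin d) R] A,
      φ₀ = RigPt.lift (I.map (C : R →+* MvPolynomial (Fin d) R)) A := ⟨_, rfl⟩
  obtain ⟨φ, hφ⟩ : ∃ φ : RPow R I d →ₐ[R] A, φ = φ₀.restrictScalars R := ⟨_, rfl⟩
  have hφι : ∀ g : MvPolynomial (Fin d) R,
      φ (algebraMap (MvPolynomial (Fin d) R) (RPow R I d) g) = θ g := by
    intro g
    rw [hφ]
    exact φ₀.commutes g
  refine ⟨d, φ, ?_⟩
  -- surjectivity
  have h4 : (I.map (algebraMap R (RPow R I d))).map φ.toRingHom = I.map (algebraMap R A) := by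
    have := phi_map R I d A φ 1
    rwa [pow_one] at this
  haveI : IsPrecomplete (I.map (algebraMap R (RPow R I d))) (RPow R I d) := by
    have h0 := CT.isAdicComplete_map _ hJfg
    have := pow_map R I d 1
    rw [pow_one, pow_one] at this
    rw [this] at h0
    exact h0.toIsPrecomplete
  haveI : IsHausdorff ((I.map (algebraMap R (RPow R I d))).map φ.toRingHom) A := by
    rw [h4]; infer_instance
  have hsurj : Function.Surjective φ.toRingHom := by
    apply surjective_of_mk_map_comp_surjective (I := I.map (algebraMap R (RPow R I d)))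
    intro y
    obtain ⟨b, rfl⟩ := Ideal.Quotient.mk_surjective y
    have hb : ∃ g, f g = Ideal.Quotient.mk ((I ^ 1).map (algebraMap R A)) b := hf _
    obtain ⟨g, hg⟩ := hb
    refine ⟨algebraMap (MvPolynomial (Fin d) R) (RPow R I d) g, ?_⟩
    rw [RingHom.comp_apply]
    change Ideal.Quotient.mk _ (φ (algebraMap (MvPolynomial (Fin d) R) (RPow R I d) g)) = _
    rw [hφι, Ideal.Quotient.eq, h4]
    have h5 := (hθf g).trans hg
    rw [Ideal.Quotient.eq, pow_one] at h5
    exact h5
  exact hsurj

end Groth.Agent.H8.RGV
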