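import Groth.Agent.Lib.Helper8.RGV.Sat

/-!
# helper8: algebras topologically of finite type over a complete valuation ring of height one:
saturated submodules are finitely generated, Artin–Rees, completeness, coherence
-/

set_option autoImplicit false
universe u

open MvPolynomial IsLocalRing

namespace Groth.Agent.H8.RGV

/-- finite presentation descends along a surjective ring map -/
theorem fp_of_fp_of_surjective {P A : Type*} [CommRing P] [CommRing A] [Algebra P A]
    (hsurj : Function.Surjective (algebraMap P A)) (M : Type*) [AddCommGroup M] [Module P M]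
    [Module A M] [IsScalarTower P A M] [Module.FinitePresentation P M] :
    Module.FinitePresentation A M := by
  haveI : Module.Finite P M := inferInstance
  haveI : Module.Finite A M := Module.Finite.of_restrictScalars_finite P A M
  obtain ⟨k, m, hm⟩ := Module.Finite.exists_fin (R := A) (M := M)
  obtain ⟨π, hπdef⟩ : ∃ π : (Fin k → A) →ₗ[A] M, π = Fintype.linearCombination A m := ⟨_, rfl⟩
  have hπsurj : Function.Surjective π := by
    rw [← LinearMap.range_eq_top, hπdef, Fintype.range_linearCombination, hm]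
  haveI : Module.Finite P A := Module.Finite.of_surjective (Algebra.linearMap P A) hsurj
  have h1 : (LinearMap.ker (π.restrictScalars P)).FG :=
    Module.FinitePresentation.fg_ker (π.restrictScalars P) hπsurj
  have h2 : (LinearMap.ker π).FG := Submodule.FG.of_restrictScalars P h1
  exact Module.finitePresentation_of_surjective π hπsurj h2

theorem isPrecomplete_of_surjective {R : Type*} [CommRing R] (I : Ideal R) {M N : Type*}
    [AddCommGroup M] [Module R M] [AddCommGroup N] [Module R N] (f : M →ₗ[R] N)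
    (hf : Function.Surjective f) [IsPrecomplete I M] : IsPrecomplete I N := by
  rw [← AdicCompletion.of_surjective_iff]
  intro y
  obtain ⟨x, rfl⟩ := AdicCompletion.map_surjective I hf y
  obtain ⟨m, rfl⟩ := AdicCompletion.of_surjective I M x
  exact ⟨f m, (AdicCompletion.map_of I f m).symm⟩

/-- the `a`-saturation of a submodule -/
def satSub {A M : Type*} [CommRing A] [AddCommGroup M] [Module A M] (a : A)
    (N : Submodule A M) : Submodule A M where
  carrier := {x | ∃ k : ℕ, a ^ k • x ∈ N}
  add_mem' := by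
    rintro x y ⟨k₁, h₁⟩ ⟨k₂, h₂⟩
    refine ⟨k₁ + k₂, ?_⟩
    rw [smul_add]
    refine N.add_mem ?_ ?_
    · rw [pow_add, mul_comm, mul_smul]; exact N.smul_mem _ h₁
    · rw [pow_add, mul_smul]; exact N.smul_mem _ h₂
  zero_mem' := ⟨0, by simp⟩
  smul_mem' := by
    rintro c x ⟨k, h⟩
    exact ⟨k, by rw [smul_comm]; exact N.smul_mem _ h⟩

section Sat

variable {A M : Type*} [CommRing A] [AddCommGroup M] [Module A M] (a : A) (N : Submodule A M)

theorem mem_satSub (x : M) : x ∈ satSub a N ↔ ∃ k : ℕ, a ^ k • x ∈ N := Iff.rfl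

theorem satSub_sat (x : M) (hx : a • x ∈ satSub a N) : x ∈ satSub a N := by
  obtain ⟨k, hk⟩ := hx
  exact ⟨k + 1, by rw [pow_succ, mul_smul]; exact hk⟩

theorem exists_pow_smul_mem (hfg : (satSub a N).FG) :
    ∃ n₀ : ℕ, ∀ x ∈ satSub a N, a ^ n₀ • x ∈ N := by
  classical
  obtain ⟨S, hS⟩ := hfg
  have h1 : ∀ s ∈ S, ∃ k : ℕ, a ^ k • s ∈ N := by
    intro s hs
    have : s ∈ satSub a N := hS ▸ Submodule.subset_span hs
    exact this
  choose! kf hkf using h1
  refine ⟨S.sup kf, ?_⟩
  intro x hx
  rw [← hS] at hx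
  induction hx using Submodule.span_induction with
  | mem s hs =>
    have hle : kf s ≤ S.sup kf := Finset.le_sup hs
    obtain ⟨d, hd⟩ := Nat.exists_eq_add_of_le hle
    rw [hd, pow_add, mul_comm, mul_smul]
    exact N.smul_mem _ (hkf s hs)
  | zero => rw [smul_zero]; exact N.zero_mem
  | add x y _ _ hx hy => rw [smul_add]; exact N.add_mem hx hy
  | smul c x _ hx => rw [smul_comm]; exact N.smul_mem _ hx

end Sat

section V

variable (R : Type u) [CommRing R] [IsDomain R] [ValuationRing R] [Ring.KrullDimLE 1 R]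
  (t : R) (ht : t ≠ 0) [IsAdicComplete (Ideal.span {t}) R] (n : ℕ)
  (J : Ideal (MvPolynomial (Fin n) R)) (hJ : J = Ideal.span {(C t : MvPolynomial (Fin n) R)})
  (A : Type u) [CommRing A] [Algebra R A]
  (φ : AdicCompletion J (MvPolynomial (Fin n) R) →ₐ[R] A) (hφ : Function.Surjective φ)

local notation "C₀" => MvPolynomial (Fin n) R
local notation "P" => AdicCompletion J (MvPolynomial (Fin n) R)

omit [IsDomain R] [ValuationRing R] [Ring.KrullDimLE 1 R] [IsAdicComplete (Ideal.span {t}) R] in
theorem phi_tau : φ (algebraMap C₀ P (C t)) = algebraMap R A t := by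
  have : algebraMap C₀ P (C t) = algebraMap R P t := rfl
  rw [this, φ.commutes]

include ht hJ hφ in
theorem fp_A (M : Type u) [AddCommGroup M] [Module A M] [Module.Finite A M]
    (htf : ∀ x : M, (algebraMap R A t) • x = 0 → x = 0) : Module.FinitePresentation A M := by
  letI : Algebra P A := φ.toRingHom.toAlgebra
  letI : Module P M := Module.compHom M φ.toRingHom
  haveI : IsScalarTower P A M := IsScalarTower.of_algebraMap_smul fun p m => rfl
  have hsurj : Function.Surjective (algebraMap P A) := hφ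
  haveI : Module.Finite P A := Module.Finite.of_surjective (Algebra.linearMap P A) hsurj
  haveI : Module.Finite P M := Module.Finite.trans A M
  haveI : Module.FinitePresentation P M := by
    refine fp_of_torsionFree R t ht n J hJ M ?_
    intro x hx
    apply htf
    have h1 : (algebraMap C₀ P (C t)) • x = (φ (algebraMap C₀ P (C t))) • x := rfl
    rw [← phi_tau R t n J A φ, ← h1]
    exact hx
  exact fp_of_fp_of_surjective hsurj M

include ht hJ hφ in
theorem ker_fg (htf : ∀ x : A, algebraMap R A t * x = 0 → x = 0) :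
    (RingHom.ker φ.toRingHom).FG := by
  letI : Algebra P A := φ.toRingHom.toAlgebra
  have hsurj : Function.Surjective (algebraMap P A) := hφ
  haveI : Module.Finite P A := Module.Finite.of_surjective (Algebra.linearMap P A) hsurj
  haveI : Module.FinitePresentation P A := by
    refine fp_of_torsionFree R t ht n J hJ A ?_
    intro x hx
    apply htf
    rw [Algebra.smul_def] at hx
    have h1 : algebraMap P A (algebraMap C₀ P (C t)) = φ (algebraMap C₀ P (C t)) := rfl
    rw [h1, phi_tau R t n J A φ] at hx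
    exact hx
  have h2 := Module.FinitePresentation.fg_ker (Algebra.linearMap P A) hsurj
  have h3 : LinearMap.ker (Algebra.linearMap P A) = RingHom.ker φ.toRingHom := by
    ext x
    rw [LinearMap.mem_ker, RingHom.mem_ker, Algebra.linearMap_apply]
    rfl
  rw [h3] at h2
  exact h2

include ht hJ hφ in
theorem sat_fg_A (M : Type u) [AddCommGroup M] [Module A M] [Module.Finite A M]
    (N : Submodule A M) (hsat : ∀ x : M, (algebraMap R A t) • x ∈ N → x ∈ N) : N.FG := by
  haveI : Module.FinitePresentation A (M ⧸ N) := by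
    refine fp_A R t ht n J hJ A φ hφ (M ⧸ N) ?_
    intro x hx
    obtain ⟨y, rfl⟩ := N.mkQ_surjective x
    rw [← map_smul, Submodule.mkQ_apply, Submodule.Quotient.mk_eq_zero] at hx
    rw [Submodule.mkQ_apply, Submodule.Quotient.mk_eq_zero]
    exact hsat y hx
  have := Module.FinitePresentation.fg_ker N.mkQ N.mkQ_surjective
  rwa [Submodule.ker_mkQ] at this

include ht hJ hφ in
theorem AR_A (M : Type u) [AddCommGroup M] [Module A M] [Module.Finite A M]
    (N : Submodule A M) :
    ∃ n₀ : ℕ, ∀ (m : ℕ) (x : M), x ∈ N → (∃ y, x = (algebraMap R A t) ^ (m + n₀) • y) →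
      ∃ z ∈ N, x = (algebraMap R A t) ^ m • z := by
  have hfg : (satSub (algebraMap R A t) N).FG :=
    sat_fg_A R t ht n J hJ A φ hφ M _ (satSub_sat _ N)
  obtain ⟨n₀, hn₀⟩ := exists_pow_smul_mem _ N hfg
  refine ⟨n₀, ?_⟩
  rintro m x hx ⟨y, rfl⟩
  have hy : y ∈ satSub (algebraMap R A t) N := ⟨m + n₀, hx⟩
  exact ⟨_, hn₀ y hy, by rw [pow_add, mul_smul]⟩

include ht hJ hφ in
theorem AR (M : Type u) [AddCommGroup M] [Module A M] [Module R M] [IsScalarTower R A M]
    [Module.Finite A M] (N : Submodule A M) :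
    ∃ n₀ : ℕ, ∀ m : ℕ,
      ((Ideal.span {t}) ^ (m + n₀) • (⊤ : Submodule R M)) ⊓ N.restrictScalars R ≤
        (Ideal.span {t}) ^ m • N.restrictScalars R := by
  obtain ⟨n₀, hn₀⟩ := AR_A R t ht n J hJ A φ hφ M N
  refine ⟨n₀, ?_⟩
  rintro m x ⟨hx1, hx2⟩
  rw [SetLike.mem_coe, Ideal.span_singleton_pow, Submodule.ideal_span_singleton_smul,
    Submodule.mem_smul_pointwise_iff_exists] at hx1
  obtain ⟨y, -, rfl⟩ := hx1
  have hx2' : t ^ (m + n₀) • y ∈ N := hx2
  obtain ⟨z, hz, hzeq⟩ := hn₀ m (t ^ (m + n₀) • y) hx2'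
    ⟨y, by rw [← map_pow, algebraMap_smul]⟩
  rw [Ideal.span_singleton_pow, Submodule.ideal_span_singleton_smul,
    Submodule.mem_smul_pointwise_iff_exists]
  refine ⟨z, hz, ?_⟩
  rw [hzeq, ← map_pow, algebraMap_smul]

include hJ hφ in
omit [IsDomain R] [ValuationRing R] [Ring.KrullDimLE 1 R] [IsAdicComplete (Ideal.span {t}) R] in
theorem tau_jac : algebraMap R A t ∈ Ideal.jacobson (⊥ : Ideal A) := by
  have hJfg : J.FG := by rw [hJ]; exact ⟨{C t}, by simp⟩
  have hjacP : algebraMap C₀ P (C t) ∈ Ideal.jacobson (⊥ : Ideal P) := by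
    apply CT.map_le_jacobson J hJfg
    apply Ideal.mem_map_of_mem
    rw [hJ]
    exact Ideal.mem_span_singleton_self _
  rw [Ideal.mem_jacobson_bot]
  intro y
  obtain ⟨p, rfl⟩ := hφ y
  have h1 := (Ideal.mem_jacobson_bot.mp hjacP p).map φ
  rwa [map_add, map_mul, map_one, phi_tau R t n J A φ] at h1

include ht hJ hφ in
theorem hausdorff_tf (M : Type u) [AddCommGroup M] [Module A M] [Module.Finite A M]
    (htf : ∀ x : M, (algebraMap R A t) • x = 0 → x = 0) (x : M)
    (hx : ∀ m : ℕ, ∃ y, x = (algebraMap R A t) ^ m • y) : x = 0 := by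
  obtain ⟨τ, hτ⟩ : ∃ τ : A, τ = algebraMap R A t := ⟨_, rfl⟩
  rw [← hτ] at htf hx
  obtain ⟨D, hD⟩ : ∃ D : Submodule A M, ∀ x, x ∈ D ↔ ∀ m : ℕ, ∃ y, x = τ ^ m • y := by
    refine ⟨{ carrier := {x | ∀ m : ℕ, ∃ y, x = τ ^ m • y}
              add_mem' := ?_
              zero_mem' := ?_
              smul_mem' := ?_ }, fun x => Iff.rfl⟩
    · intro a b ha hb m
      obtain ⟨y₁, h₁⟩ := ha m
      obtain ⟨y₂, h₂⟩ := hb m
      exact ⟨y₁ + y₂, by rw [smul_add, ← h₁, ← h₂]⟩
    · intro m
      exact ⟨0, by rw [smul_zero]⟩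
    · intro c a ha m
      obtain ⟨y, hy⟩ := ha m
      exact ⟨c • y, by rw [smul_comm, ← hy]⟩
  have hDsat : ∀ y : M, τ • y ∈ D → y ∈ D := by
    intro y hy
    rw [hD] at hy ⊢
    intro m
    obtain ⟨z, hz⟩ := hy (m + 1)
    refine ⟨z, ?_⟩
    have h1 : τ • (y - τ ^ m • z) = 0 := by
      rw [smul_sub, hz, pow_succ, mul_comm, mul_smul, sub_self]
    exact sub_eq_zero.mp (htf _ h1)
  have hDfg : D.FG := sat_fg_A R t ht n J hJ A φ hφ M D (by rw [← hτ]; exact hDsat)
  have hDle : D ≤ Ideal.span {τ} • D := by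
    intro x hx
    obtain ⟨y, hy⟩ := (hD x).mp hx 1
    rw [pow_one] at hy
    have hyD : y ∈ D := hDsat y (hy ▸ hx)
    rw [hy]
    exact Submodule.smul_mem_smul (Ideal.mem_span_singleton_self τ) hyD
  have hjac : Ideal.span {τ} ≤ Ideal.jacobson (⊥ : Ideal A) := by
    rw [Ideal.span_le, Set.singleton_subset_iff, hτ]
    exact tau_jac R t n J hJ A φ hφ
  have hbot := Submodule.eq_bot_of_le_smul_of_le_jacobson_bot (Ideal.span {τ}) D hDfg hDle hjac
  have : x ∈ D := (hD x).mpr hx
  rw [hbot] at this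
  exact this

include ht hJ hφ in
theorem hausdorff (M : Type u) [AddCommGroup M] [Module A M] [Module.Finite A M] (x : M)
    (hx : ∀ m : ℕ, ∃ y, x = (algebraMap R A t) ^ m • y) : x = 0 := by
  obtain ⟨τ, hτ⟩ : ∃ τ : A, τ = algebraMap R A t := ⟨_, rfl⟩
  rw [← hτ] at hx
  obtain ⟨Z, hZ⟩ : ∃ Z : Submodule A M, Z = satSub τ ⊥ := ⟨_, rfl⟩
  have hZsat : ∀ y : M, τ • y ∈ Z → y ∈ Z := by
    intro y hy
    rw [hZ] at hy ⊢
    exact satSub_sat _ _ y hy
  have hZfg : Z.FG := sat_fg_A R t ht n J hJ A φ hφ M Z (by rw [← hτ]; exact hZsat)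
  obtain ⟨n₀, hn₀⟩ := exists_pow_smul_mem τ (⊥ : Submodule A M) (by rw [← hZ]; exact hZfg)
  have hxZ : x ∈ Z := by
    have h1 : Z.mkQ x = 0 := by
      refine hausdorff_tf R t ht n J hJ A φ hφ (M ⧸ Z) ?_ (Z.mkQ x) ?_
      · intro w hw
        obtain ⟨y, rfl⟩ := Z.mkQ_surjective w
        rw [← hτ, ← map_smul, Submodule.mkQ_apply, Submodule.Quotient.mk_eq_zero] at hw
        rw [Submodule.mkQ_apply, Submodule.Quotient.mk_eq_zero]
        exact hZsat y hw
      · intro m
        obtain ⟨y, hy⟩ := hx m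
        exact ⟨Z.mkQ y, by rw [← hτ, ← map_smul, ← hy]⟩
    rwa [Submodule.mkQ_apply, Submodule.Quotient.mk_eq_zero] at h1
  obtain ⟨y, hy⟩ := hx n₀
  have hyZ : y ∈ Z := by
    rw [hZ, mem_satSub] at hxZ ⊢
    obtain ⟨k, hk⟩ := hxZ
    refine ⟨k + n₀, ?_⟩
    rw [pow_add, mul_smul, ← hy]
    exact hk
  have h2 := hn₀ y (hZ ▸ hyZ)
  rw [Submodule.mem_bot] at h2
  rw [hy, h2]

include ht hJ hφ in
theorem complete (M : Type u) [AddCommGroup M] [Module A M] [Module R M] [IsScalarTower R A M]
    [Module.Finite A M] : IsAdicComplete (Ideal.span {t}) M := by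
  have hH : IsHausdorff (Ideal.span {t}) M := by
    refine ⟨fun x hx => hausdorff R t ht n J hJ A φ hφ M x fun m => ?_⟩
    have h1 := hx m
    rw [SModEq.zero, Ideal.span_singleton_pow, Submodule.ideal_span_singleton_smul,
      Submodule.mem_smul_pointwise_iff_exists] at h1
    obtain ⟨y, -, hy⟩ := h1
    exact ⟨y, by rw [← hy, ← map_pow, algebraMap_smul]⟩
  have hP : IsPrecomplete (Ideal.span {t}) M := by
    obtain ⟨k, m, hm⟩ := Module.Finite.exists_fin (R := A) (M := M)
    have hπsurj : Function.Surjective (Fintype.linearCombination A m) := by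
      rw [← LinearMap.range_eq_top, Fintype.range_linearCombination, hm]
    obtain ⟨f, hf⟩ : ∃ f : (Fin k → P) →ₗ[R] M,
        f = ((Fintype.linearCombination A m).restrictScalars R).comp
          (φ.toLinearMap.compLeft (Fin k)) := ⟨_, rfl⟩
    have hfsurj : Function.Surjective f := by
      rw [hf]
      refine hπsurj.comp ?_
      exact hφ.comp_left
    haveI : IsAdicComplete (Ideal.span {algebraMap C₀ P (C t)}) P := P_complete R t n J hJ
    haveI h3 : IsAdicComplete (Ideal.span {algebraMap C₀ P (C t)}) (Fin k → P) :=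
      RigPt.isAdicComplete_of_basis (Pi.basisFun P (Fin k)) _
    haveI : IsAdicComplete (Ideal.span {t}) (Fin k → P) := by
      have h4 : (Ideal.span {t}).map (algebraMap R P) = Ideal.span {algebraMap C₀ P (C t)} := by
        rw [Ideal.map_span, Set.image_singleton]
        rfl
      rw [← h4] at h3
      exact (IsAdicComplete.map_algebraMap_iff _ _).mp h3
    exact isPrecomplete_of_surjective (Ideal.span {t}) f hfsurj
  exact { toIsHausdorff := hH, toIsPrecomplete := hP }

include ht hJ hφ in
theorem coherent (hker : (RingHom.ker φ.toRingHom).FG) (Jd : Ideal A) (hJd : Jd.FG) :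
    Module.FinitePresentation A Jd := by
  classical
  letI : Algebra P A := φ.toRingHom.toAlgebra
  have hsurj : Function.Surjective (algebraMap P A) := hφ
  obtain ⟨J', hJ'⟩ : ∃ J' : Ideal P, J' = Jd.comap (algebraMap P A) := ⟨_, rfl⟩
  have hmemJ' : ∀ p : P, p ∈ J' ↔ algebraMap P A p ∈ Jd := fun p => by
    rw [hJ', Ideal.mem_comap]
  have hkerle : RingHom.ker (algebraMap P A) ≤ J' := by
    intro x hx
    rw [hJ', Ideal.mem_comap, RingHom.mem_ker.mp hx]
    exact zero_mem _
  have hJ'fg : J'.FG := by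
    obtain ⟨S, hS⟩ := hJd
    have h1 : ∀ s : A, ∃ p : P, algebraMap P A p = s := fun s => hsurj s
    choose lift hlift using h1
    have h2 : Ideal.map (algebraMap P A) (Ideal.span (lift '' (↑S : Set A))) = Jd := by
      rw [Ideal.map_span, Set.image_image, ← hS]
      congr 1
      ext x
      simp [hlift]
    have h3 : J' = Ideal.span (lift '' (↑S : Set A)) ⊔ RingHom.ker (algebraMap P A) := by
      rw [hJ', ← h2, Ideal.comap_map_of_surjective _ hsurj]
      rfl
    rw [h3]
    exact Submodule.FG.sup (Submodule.fg_span (S.finite_toSet.image _)) hker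
  haveI : Module.Finite P J' := Module.Finite.of_fg hJ'fg
  haveI : Module.FinitePresentation P J' := by
    refine fp_of_torsionFree R t ht n J hJ J' ?_
    intro x hx
    apply Subtype.ext
    rw [ZeroMemClass.coe_zero]
    have h1 : algebraMap C₀ P (C t) * (x : P) = 0 := by
      have := congrArg Subtype.val hx
      rwa [Submodule.coe_smul, smul_eq_mul, ZeroMemClass.coe_zero] at this
    exact P_tf R t ht n J hJ t ht _ h1
  obtain ⟨ψ, hψ⟩ : ∃ ψ : J' →ₗ[P] Jd, ∀ x : J', ((ψ x : Jd) : A) = algebraMap P A (x : P) := by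
    refine ⟨{ toFun := fun x => ⟨algebraMap P A (x : P), (hmemJ' _).mp x.2⟩
              map_add' := ?_
              map_smul' := ?_ }, fun x => rfl⟩
    · intro x y
      apply Subtype.ext
      simp
    · intro c x
      apply Subtype.ext
      simp [Algebra.smul_def]
  have hψsurj : Function.Surjective ψ := by
    intro y
    obtain ⟨p, hp⟩ := hsurj (y : A)
    have hpJ : p ∈ J' := by rw [hJ', Ideal.mem_comap, hp]; exact y.2
    exact ⟨⟨p, hpJ⟩, Subtype.ext (by rw [hψ]; exact hp)⟩
  have hkerψ : (LinearMap.ker ψ).FG := by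
    apply Submodule.fg_of_fg_map_injective J'.subtype Subtype.val_injective
    have h4 : Submodule.map J'.subtype (LinearMap.ker ψ) = RingHom.ker (algebraMap P A) := by
      ext x
      constructor
      · rintro ⟨y, hy, rfl⟩
        rw [SetLike.mem_coe, LinearMap.mem_ker] at hy
        have := congrArg Subtype.val hy
        rw [hψ, ZeroMemClass.coe_zero] at this
        exact this
      · intro hx
        refine ⟨⟨x, hkerle hx⟩, ?_, rfl⟩
        rw [SetLike.mem_coe, LinearMap.mem_ker]
        apply Subtype.ext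
        rw [hψ, ZeroMemClass.coe_zero]
        exact hx
    rw [h4]
    exact hker
  haveI : Module.FinitePresentation P Jd := Module.finitePresentation_of_surjective ψ hψsurj hkerψ
  exact fp_of_fp_of_surjective hsurj Jd

end V

end Groth.Agent.H8.RGV
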